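import Mathlib
import Cfsg.Agent.Lib.Fusion.Meta.Linear

set_option autoImplicit false

/-!
# A torus element from two transvections in an elementary abelian group of order `p²`
-/

set_option linter.unusedSectionVars false

namespace Cfsg.Agent.Lib.Fusion.RankTwo.Linear

open Cfsg.Agent.Lib.Fusion.Meta.Linear

variable {V : Type*} [CommGroup V] {p : ℕ} [hp : Fact p.Prime]

theorem pow_congr_cast (hexp : ∀ x : V, x ^ p = 1) (e : V) {m n : ℕ} (h : (m : ZMod p) = (n : ZMod p)) :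
    e ^ m = e ^ n := by
  have h1 : m % p = n % p := (ZMod.natCast_eq_natCast_iff' m n p).1 h
  rw [pow_eq_pow_mod m (hexp e), pow_eq_pow_mod n (hexp e), h1]

/-- The conjugate form of a triple product. -/
theorem triple_form (hexp : ∀ x : V, x ^ p = 1) {u v : MulAut V} {e₁ e₂ : V} {x y : ℕ}
    (hu1 : u e₁ = e₁) (hu2 : u e₂ = e₂ * e₁ ^ x) (hv1 : v e₂ = e₂) (hv2 : v e₁ = e₁ * e₂ ^ y)
    (i j : ℕ) (hij : ((1 + i * x * (j * y) : ℕ) : ZMod p) = 0) :
    (u ^ i * v ^ j * u ^ i) e₁ = e₂ ^ (j * y) ∧ (u ^ i * v ^ j * u ^ i) e₂ = e₁ ^ (i * x) := by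
  have hui1 : (u ^ i) e₁ = e₁ := pow_fix hu1 i
  have hui2 : (u ^ i) e₂ = e₂ * e₁ ^ (i * x) := shift_pow hu1 hu2 i
  have hvj1 : (v ^ j) e₂ = e₂ := pow_fix hv1 j
  have hvj2 : (v ^ j) e₁ = e₁ * e₂ ^ (j * y) := shift_pow hv1 hv2 j
  have hone : ∀ e : V, e ^ (1 + i * x * (j * y)) = 1 := by
    intro e
    have h1 : e ^ (1 + i * x * (j * y)) = e ^ 0 := pow_congr_cast hexp e (by simpa using hij)
    simpa using h1
  constructor
  · show (u ^ i) ((v ^ j) ((u ^ i) e₁)) = _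
    rw [hui1, hvj2, map_mul, map_pow, hui1, hui2, mul_pow, ← pow_mul]
    have e : e₁ * (e₂ ^ (j * y) * e₁ ^ (i * x * (j * y))) = e₁ ^ (1 + i * x * (j * y)) * e₂ ^ (j * y) := by
      rw [pow_add, pow_one]
      ac_rfl
    rw [e, hone, one_mul]
  · show (u ^ i) ((v ^ j) ((u ^ i) e₂)) = _
    have h1 : (v ^ j) ((u ^ i) e₂) = e₁ ^ (i * x) := by
      rw [hui2, map_mul, map_pow, hvj1, hvj2, mul_pow, ← pow_mul]
      have e : e₂ * (e₁ ^ (i * x) * e₂ ^ (j * y * (i * x))) = e₂ ^ (1 + i * x * (j * y)) * e₁ ^ (i * x) := by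
        rw [pow_add, pow_one, show j * y * (i * x) = i * x * (j * y) by ring]
        ac_rfl
      rw [e, hone, one_mul]
    rw [h1, map_pow, hui1]

variable [Finite V]

/-- Two "transvections" with different fixed lines produce the torus elements. -/
theorem exists_diag (hexp : ∀ x : V, x ^ p = 1) (hcard : Nat.card V ≤ p ^ 2) (B : Subgroup (MulAut V))
    {u : MulAut V} (huB : u ∈ B) {k : ℕ} (huk : u ^ (p ^ k) = 1) (hu1 : u ≠ 1) {e₁ : V} (h1 : e₁ ≠ 1)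
    (hfix : u e₁ = e₁) {β : MulAut V} (hβ : β ∈ B) (he₂ : β e₁ ∉ Subgroup.zpowers e₁) {a a' : ℕ}
    (haa : ((a * a' : ℕ) : ZMod p) = 1) :
    ∃ τ ∈ B, τ e₁ = e₁ ^ a ∧ τ (β e₁) = (β e₁) ^ a' := by
  classical
  set e₂ := β e₁ with he₂def
  have h2ne : e₂ ≠ 1 := by
    intro h
    rw [h] at he₂
    exact he₂ (one_mem _)
  have ho1 : orderOf e₁ = p := orderOf_eq_prime (hexp e₁) h1
  have ho2 : orderOf e₂ = p := orderOf_eq_prime (hexp e₂) h2ne
  let v : MulAut V := β * u * β⁻¹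
  have hvB : v ∈ B := B.mul_mem (B.mul_mem hβ huB) (B.inv_mem hβ)
  have hvfix : v e₂ = e₂ := by
    show β (u (β⁻¹ (β e₁))) = β e₁
    rw [MulAut.inv_apply_self, hfix]
  have hvk : v ^ (p ^ k) = 1 := by
    have : v ^ (p ^ k) = β * u ^ (p ^ k) * β⁻¹ := conj_pow
    rw [this, huk]
    simp
  have hv1 : v ≠ 1 := by
    intro h
    apply hu1
    have : u = β⁻¹ * v * β := by
      show u = β⁻¹ * (β * u * β⁻¹) * β
      group
    rw [this, h]
    simp
  have h12 : e₁ ∉ Subgroup.zpowers e₂ := by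
    intro h
    have hle : Subgroup.zpowers e₁ ≤ Subgroup.zpowers e₂ := Subgroup.zpowers_le.2 h
    have heq : Subgroup.zpowers e₁ = Subgroup.zpowers e₂ :=
      Subgroup.eq_of_le_of_card_ge hle (by rw [Nat.card_zpowers, Nat.card_zpowers, ho1, ho2])
    apply he₂
    rw [heq]
    exact Subgroup.mem_zpowers e₂
  obtain ⟨x, hx, hsu⟩ := exists_shift hexp hcard huk hu1 h1 hfix he₂
  obtain ⟨y, hy, hsv⟩ := exists_shift hexp hcard hvk hv1 h2ne hvfix h12
  have hX : (x : ZMod p) ≠ 0 := by rwa [Ne, ZMod.natCast_eq_zero_iff]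
  have hY : (y : ZMod p) ≠ 0 := by rwa [Ne, ZMod.natCast_eq_zero_iff]
  have hXY : (x : ZMod p) * (y : ZMod p) ≠ 0 := mul_ne_zero hX hY
  set r : ℕ := (-((x : ZMod p) * y)⁻¹).val with hr
  set i : ℕ := (-(a' : ZMod p)).val with hi
  set j : ℕ := ((a : ZMod p) * ((x : ZMod p) * y)⁻¹).val with hj
  have hrc : (r : ZMod p) = -((x : ZMod p) * y)⁻¹ := ZMod.natCast_zmod_val _
  have hic : (i : ZMod p) = -(a' : ZMod p) := ZMod.natCast_zmod_val _
  have hjc : (j : ZMod p) = (a : ZMod p) * ((x : ZMod p) * y)⁻¹ := ZMod.natCast_zmod_val _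
  have haa' : (a : ZMod p) * (a' : ZMod p) = 1 := by simpa using haa
  obtain ⟨hw11, hw12⟩ := triple_form hexp hfix hsu hvfix hsv 1 r (by
    push_cast
    rw [hrc]
    field_simp
    ring)
  obtain ⟨hw21, hw22⟩ := triple_form hexp hfix hsu hvfix hsv i j (by
    push_cast
    rw [hic, hjc]
    field_simp
    try linear_combination -haa')
  refine ⟨(u ^ 1 * v ^ r * u ^ 1) * (u ^ i * v ^ j * u ^ i),
    B.mul_mem (B.mul_mem (B.mul_mem (B.pow_mem huB 1) (B.pow_mem hvB r)) (B.pow_mem huB 1))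
      (B.mul_mem (B.mul_mem (B.pow_mem huB i) (B.pow_mem hvB j)) (B.pow_mem huB i)), ?_, ?_⟩
  · rw [MulAut.mul_apply, hw21, map_pow, hw12, ← pow_mul]
    apply pow_congr_cast hexp
    push_cast
    rw [hjc]
    field_simp
  · rw [MulAut.mul_apply, hw22, map_pow, hw11, ← pow_mul]
    apply pow_congr_cast hexp
    push_cast
    rw [hrc, hic]
    field_simp

/-- A torus element acts by scalars on transvections. -/
theorem diag_conj (hexp : ∀ x : V, x ^ p = 1) (hcard : Nat.card V ≤ p ^ 2) {e₁ e₂ : V} (h1 : e₁ ≠ 1)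
    (h2 : e₂ ∉ Subgroup.zpowers e₁) {τ γ : MulAut V} {a a' : ℕ} (haa : ((a * a' : ℕ) : ZMod p) = 1)
    (hτ1 : τ e₁ = e₁ ^ a) (hτ2 : τ e₂ = e₂ ^ a') (hγ1 : γ e₁ = e₁) {c : ℕ} (hγ2 : γ e₂ = e₂ * e₁ ^ c) :
    τ * γ = γ ^ (a * a) * τ := by
  ext w
  obtain ⟨i, j, rfl⟩ := exists_coords hexp hcard h1 h2 w
  have hγp1 : (γ ^ (a * a)) e₁ = e₁ := pow_fix hγ1 _
  have hγp2 : (γ ^ (a * a)) e₂ = e₂ * e₁ ^ ((a * a) * c) := shift_pow hγ1 hγ2 _
  have key1 : τ (γ e₁) = (γ ^ (a * a)) (τ e₁) := by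
    rw [hγ1, hτ1, map_pow, hγp1]
  have key2 : τ (γ e₂) = (γ ^ (a * a)) (τ e₂) := by
    rw [hγ2, map_mul, map_pow, hτ1, hτ2, map_pow, hγp2, mul_pow, ← pow_mul, ← pow_mul]
    congr 1
    apply pow_congr_cast hexp
    push_cast
    have haa' : (a : ZMod p) * (a' : ZMod p) = 1 := by simpa using haa
    linear_combination (-(a : ZMod p) * c) * haa'
  show τ (γ (e₁ ^ i * e₂ ^ j)) = (γ ^ (a * a)) (τ (e₁ ^ i * e₂ ^ j))
  simp only [map_mul, map_pow, key1, key2]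

/-- A `p`-element acts trivially on a line. -/
theorem fix_of_line (hexp : ∀ x : V, x ^ p = 1) {ℓ : Subgroup V} (hℓ : Nat.card ℓ ≤ p) {u : MulAut V}
    (hu : ∀ x ∈ ℓ, u x ∈ ℓ) {k : ℕ} (huk : u ^ (p ^ k) = 1) : ∀ x ∈ ℓ, u x = x := by
  classical
  intro e he
  by_cases h1 : e = 1
  · rw [h1, map_one]
  have ho : orderOf e = p := orderOf_eq_prime (hexp e) h1
  have hle : Subgroup.zpowers e ≤ ℓ := Subgroup.zpowers_le.2 he
  have heq : Subgroup.zpowers e = ℓ :=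
    Subgroup.eq_of_le_of_card_ge hle (by rw [Nat.card_zpowers, ho]; exact hℓ)
  have hm : u e ∈ Subgroup.zpowers e := by rw [heq]; exact hu e he
  obtain ⟨m, hm⟩ := mem_powers_iff_mem_zpowers.2 hm
  have hm' : u e = e ^ m := hm.symm
  have hind : ∀ n : ℕ, (u ^ n) e = e ^ (m ^ n) := by
    intro n
    induction n with
    | zero => simp
    | succ n ih =>
      rw [pow_succ, MulAut.mul_apply, hm', map_pow, ih, ← pow_mul, pow_succ, mul_comm]
  have h2 := hind (p ^ k)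
  rw [huk] at h2
  have h3 : e ^ (m ^ (p ^ k)) = e ^ m := by
    apply pow_congr_cast (p := p) hexp
    push_cast
    exact ZMod.pow_card_pow (n := k) (x := (m : ZMod p))
  rw [hm', ← h3]
  exact h2.symm

end Cfsg.Agent.Lib.Fusion.RankTwo.Linear
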