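import Mathlib
import Cfsg.Prelude.Def_CaseTheorems
import Cfsg.Agent.Lib.PGroup.RankTwoD
import Cfsg.Agent.Lib.OddOrder.BG4B

set_option autoImplicit false

/-!
# The structure of non-metacyclic rank two `p`-groups, `p ≥ 5`, inside an ambient group
-/

namespace Cfsg.Agent.Lib.Fusion.RankTwo

open Subgroup Cfsg.Agent.Lib.PGroup.RankTwo
open scoped commutatorElement

set_option linter.unusedSectionVars false

variable {Ω : Type*} [Group Ω]

/-- Facts on a non-metacyclic rank two `p`-group `S`. -/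
structure Pack (S : Subgroup Ω) (p : ℕ) where
  E : Subgroup Ω
  V : Subgroup Ω
  C : Subgroup Ω
  w : Ω
  y : Ω
  hES : E ≤ S
  hEmem : ∀ g ∈ S, g ∈ E ↔ g ^ p = 1
  hEc : Nat.card E = p ^ 3
  hVE : V ≤ E
  hVc : Nat.card V = p ^ 2
  hwV : w ∈ V
  hyV : y ∈ V
  hwZ : ∀ g ∈ S, g * w = w * g
  hwo : orderOf w = p
  hyw : y ∉ zpowers w
  hVeq : V = zpowers w ⊔ zpowers y
  hEcomm : ∀ e ∈ E, ∀ e' ∈ E, ⁅e, e'⁆ ∈ zpowers w
  hEna : ∃ e ∈ E, ∃ e' ∈ E, ⁅e, e'⁆ ≠ 1
  hZE : ∀ e ∈ E, (∀ e' ∈ E, e * e' = e' * e) → e ∈ zpowers w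
  hVcomm : ∀ v ∈ V, ∀ g ∈ S, ⁅v, g⁆ ∈ zpowers w
  hEV : ∀ e ∈ E, ∀ g ∈ S, ⁅e, g⁆ ∈ V
  hSV : ∀ a ∈ S, ∀ b ∈ S, ⁅a, b⁆ ∈ V
  hCmem : ∀ c, c ∈ C ↔ c ∈ S ∧ ∀ e ∈ E, c * e = e * c
  hCcyc : IsCyclic C

/-- Further facts, in the case `E C < S`. -/
structure PackC {S : Subgroup Ω} {p : ℕ} (P : Pack S p) where
  z : Ω
  hzS : z ∈ S
  hzK : z ∉ P.E ⊔ P.C
  hzV : ∀ v ∈ P.V, v * z = z * v
  hCz : P.C = zpowers (z ^ p)
  hgen : ∀ g ∈ S, ∃ e ∈ P.E, ∃ i : ℤ, g = e * z ^ i
  hu : ∃ x ∈ P.E, x⁻¹ * (z * x * z⁻¹) ∉ zpowers P.w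
  hweights : ∀ θ : MulAut S, ∀ f : S, (f : Ω) ∈ P.E → (f : Ω) ∉ P.V → ∀ a' : ℕ,
    ((θ f : S) : Ω) * ((f : Ω) ^ a')⁻¹ ∈ P.V → a' * a' ≡ 1 [MOD p]

section weights

variable {G : Type*} [Group G] [Finite G] {p : ℕ} [hp : Fact p.Prime] (D : Data G p)

open Cfsg.Agent.Lib.OddOrder.BG4.Blackburn

/-- The weight restriction, from the square of an automorphism. -/
theorem weight_square (hG : IsPGroup p G) {z : G} (hzX : z ∈ centralizer (D.V : Set G))
    (hzM : z ∉ D.E ⊔ centralizer (D.E : Set G)) (hC : centralizer (D.E : Set G) = zpowers (z ^ p))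
    (θ : G ≃* G) (f : G) (hfE : f ∈ D.E) (hfV : f ∉ D.V) (a' : ℕ) (h : θ f * (f ^ a')⁻¹ ∈ D.V) :
    a' * a' ≡ 1 [MOD p] := by
  have hVn := D.hVn
  obtain ⟨hVinv, -⟩ := weights D hG hzX hzM hC θ
  have hsq := square_fix D hG hzX hzM hC θ
  let mk : G →* G ⧸ D.V := QuotientGroup.mk' D.V
  have hmkV : ∀ v ∈ D.V, mk v = 1 := fun v hv => (QuotientGroup.eq_one_iff _).2 hv
  -- `θ²` is trivial modulo `V` on `E`
  let f₂ : G →* G ⧸ D.V := mk.comp (θ.toMonoidHom.comp θ.toMonoidHom)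
  have hle : D.E ≤ MonoidHom.eqLocus f₂ mk := by
    rw [← D.E_eq hG]
    refine sup_le ?_ ?_
    · intro v hv
      show mk (θ (θ v)) = mk v
      rw [hmkV _ hv, hmkV _ ((hVinv _).2 ((hVinv _).2 hv))]
    · rw [zpowers_le]
      show mk (θ (θ D.x)) = mk D.x
      have h1 : mk (θ (θ D.x⁻¹)) = mk D.x⁻¹ := by
        have h2 := hmkV _ hsq
        rw [map_mul, map_inv] at h2
        exact (inv_mul_eq_one.1 h2).symm
      have h3 : (mk (θ (θ D.x)))⁻¹ = (mk D.x)⁻¹ := by
        simpa [map_inv] using h1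
      exact inv_injective h3
  have h2 : mk (θ (θ f)) = mk f := hle hfE
  have hθf : θ f = (θ f * (f ^ a')⁻¹) * f ^ a' := by group
  have h3 : mk (θ f) = mk f ^ a' := by
    rw [hθf, map_mul, hmkV _ h, one_mul, map_pow]
  have h4 : mk (θ (θ f)) = mk f ^ (a' * a') := by
    rw [hθf, map_mul, map_mul, hmkV _ ((hVinv _).2 h), one_mul, map_pow, map_pow, h3, ← pow_mul]
  rw [h4] at h2
  have hne : mk f ≠ 1 := fun h5 => hfV ((QuotientGroup.eq_one_iff _).1 h5)
  have hfp : f ^ p = 1 := (D.hEmem f).1 hfE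
  have hord : orderOf (mk f) = p := orderOf_eq_prime (by rw [← map_pow, hfp, map_one]) hne
  have h5 : mk f ^ (a' * a') = mk f ^ 1 := by rw [h2, pow_one]
  have h6 := pow_eq_pow_iff_modEq.1 h5
  rwa [hord] at h6

end weights

section pack

variable {S : Subgroup Ω} [Finite S] {p : ℕ} [hp : Fact p.Prime]


theorem mem_mapS {H : Subgroup S} {x : S} : (x : Ω) ∈ H.map S.subtype ↔ x ∈ H := by
  constructor
  · rintro ⟨y, hy, hyx⟩
    have : y = x := Subtype.ext hyx
    rwa [← this]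
  · intro h
    exact ⟨x, h, rfl⟩

theorem coe_mem_zpowers {a b : S} (h : a ∈ zpowers b) : (a : Ω) ∈ zpowers (b : Ω) := by
  obtain ⟨k, rfl⟩ := h
  exact ⟨k, by simp⟩

theorem exists_pack (hp5 : 3 < p) (hS : IsPGroup p S) (hr : Cfsg.PRankLE p 2 S)
    (hnm : ¬ Cfsg.IsMetacyclic S) :
    ∃ P : Pack S p, P.E ⊔ P.C = S ∨ Nonempty (PackC P) := by
  classical
  obtain ⟨D⟩ := Data.exists_data hp5 hS hr hnm
  have hp2 : p ≠ 2 := by omega
  have hVn := D.hVn
  have hEn := D.hEn
  have hmemS : ∀ (H : Subgroup S) (x : Ω), x ∈ H.map S.subtype → x ∈ S := fun H x hx =>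
    (Subgroup.map_subtype_le H) hx
  have hcoeComm : ∀ a b : S, ((⁅a, b⁆ : S) : Ω) = ⁅(a : Ω), (b : Ω)⁆ := fun a b => by
    simp [commutatorElement_def]
  have hSV : ∀ a b : S, ⁅a, b⁆ ∈ D.V := by
    intro a b
    rcases D.dichotomy hp5 hS with hM | ⟨z, hzX, hzM, hC⟩
    · exact D.hVE.trans le_rfl |> fun _ =>
        (zpowers_le.mpr D.hwV) (D.comm_of_sup_top hS hp2 hM a b)
    · exact D.comm_mem_V hS hzX hzM hC a b
  let P : Pack S p :=
    { E := D.E.map S.subtype
      V := D.V.map S.subtype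
      C := (centralizer (D.E : Set S)).map S.subtype
      w := (D.w : Ω)
      y := (D.y : Ω)
      hES := Subgroup.map_subtype_le _
      hEmem := by
        intro g hg
        have h1 := D.hEmem ⟨g, hg⟩
        rw [show g = ((⟨g, hg⟩ : S) : Ω) from rfl, mem_mapS, h1]
        constructor
        · intro h
          exact congrArg Subtype.val h
        · intro h
          exact Subtype.ext h
      hEc := by rw [Subgroup.card_map_of_injective S.subtype_injective, D.hEc]
      hVE := Subgroup.map_mono D.hVE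
      hVc := by rw [Subgroup.card_map_of_injective S.subtype_injective, D.hVc]
      hwV := mem_mapS.2 D.hwV
      hyV := mem_mapS.2 D.hyV
      hwZ := by
        intro g hg
        exact congrArg Subtype.val ((Subgroup.mem_center_iff.1 D.hwZ) ⟨g, hg⟩)
      hwo := by rw [Subgroup.orderOf_coe, D.hwo]
      hyw := by
        rintro ⟨k, hk⟩
        apply D.hyw
        refine ⟨k, Subtype.ext ?_⟩
        simpa using hk
      hVeq := by
        rw [D.hVeq, Subgroup.map_sup, MonoidHom.map_zpowers, MonoidHom.map_zpowers]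
        rfl
      hEcomm := by
        rintro _ ⟨e, he, rfl⟩ _ ⟨e', he', rfl⟩
        have h1 := D.E_comm_mem he he'
        have h2 := coe_mem_zpowers h1
        rwa [hcoeComm] at h2
      hEna := by
        by_contra hcon
        push Not at hcon
        apply D.hEna
        refine ⟨⟨fun a b => ?_⟩⟩
        have h1 := hcon _ (mem_mapS.2 a.2) _ (mem_mapS.2 b.2)
        apply Subtype.ext
        apply Subtype.ext
        exact commutatorElement_eq_one_iff_mul_comm.1 h1
      hZE := by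
        rintro _ ⟨e, he, rfl⟩ hc
        refine coe_mem_zpowers (D.mem_zpowers_of_mem_centralizer hS he ?_)
        rw [mem_centralizer_iff]
        intro a ha
        apply Subtype.ext
        exact (hc _ (mem_mapS.2 ha)).symm
      hVcomm := by
        rintro _ ⟨v, hv, rfl⟩ g hg
        have h1 := Cfsg.Agent.Lib.OddOrder.BG4.Blackburn.comm_V_mem D hv ⟨g, hg⟩
        have h2 := coe_mem_zpowers h1
        rwa [hcoeComm] at h2
      hEV := by
        rintro _ ⟨e, he, rfl⟩ g hg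
        have h1 := Cfsg.Agent.Lib.OddOrder.BG4.Blackburn.comm_E_mem D hS he ⟨g, hg⟩
        have h2 := mem_mapS.2 h1
        rwa [hcoeComm] at h2
      hSV := by
        intro a ha b hb
        have h2 := mem_mapS.2 (hSV ⟨a, ha⟩ ⟨b, hb⟩)
        rwa [hcoeComm] at h2
      hCmem := by
        intro c
        constructor
        · rintro ⟨c', hc', rfl⟩
          refine ⟨c'.2, ?_⟩
          rintro _ ⟨e, he, rfl⟩
          exact (congrArg Subtype.val ((mem_centralizer_iff.1 hc') e he)).symm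
        · rintro ⟨hcS, hc⟩
          refine mem_mapS (x := ⟨c, hcS⟩).2 ?_
          rw [mem_centralizer_iff]
          intro e he
          apply Subtype.ext
          exact (hc _ (mem_mapS.2 he)).symm
      hCcyc := by
        have h1 := D.C_isCyclic hS hp2
        let e := ((centralizer (D.E : Set S)).equivMapOfInjective S.subtype S.subtype_injective).symm
        exact isCyclic_of_injective e.toMonoidHom e.injective }
  refine ⟨P, ?_⟩
  rcases D.dichotomy hp5 hS with hM | ⟨z, hzX, hzM, hC⟩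
  · left
    show D.E.map S.subtype ⊔ (centralizer (D.E : Set S)).map S.subtype = S
    rw [← Subgroup.map_sup, hM, ← MonoidHom.range_eq_map, Subgroup.range_subtype]
  · right
    refine ⟨⟨(z : Ω), z.2, ?_, ?_, ?_, ?_, ?_, ?_⟩⟩
    · show (z : Ω) ∉ D.E.map S.subtype ⊔ (centralizer (D.E : Set S)).map S.subtype
      rw [← Subgroup.map_sup, mem_mapS]
      exact hzM
    · rintro _ ⟨v, hv, rfl⟩
      exact congrArg Subtype.val ((mem_centralizer_iff.1 hzX) v hv)
    · show (centralizer (D.E : Set S)).map S.subtype = _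
      rw [hC, MonoidHom.map_zpowers]
      rfl
    · intro g hg
      have htop := D.sup_zpowers_z_eq_top hS hzX hzM
      have hle : D.E ⊔ zpowers z = ⊤ := by
        rw [eq_top_iff, ← htop]
        refine sup_le (sup_le le_sup_left ?_) le_sup_right
        rw [hC]
        exact (zpowers_le.2 (pow_mem (mem_zpowers z) p)).trans le_sup_right
      have hmem : (⟨g, hg⟩ : S) ∈ ((D.E ⊔ zpowers z : Subgroup S) : Set S) := by
        rw [hle]
        trivial
      rw [Subgroup.normal_mul] at hmem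
      obtain ⟨e, he, b, ⟨i, rfl⟩, hb⟩ := Set.mem_mul.1 hmem
      refine ⟨e, mem_mapS.2 he, i, ?_⟩
      have := congrArg Subtype.val hb
      simpa using this.symm
    · refine ⟨(D.x : Ω), mem_mapS.2 D.hxE, ?_⟩
      intro h
      apply Cfsg.Agent.Lib.OddOrder.BG4.Blackburn.u_notMem D hS hzX hzM
      obtain ⟨k, hk⟩ := h
      refine ⟨k, Subtype.ext ?_⟩
      have e1 : ((D.u z : S) : Ω) = (D.x : Ω)⁻¹ * ((z : Ω) * (D.x : Ω) * (z : Ω)⁻¹) := by
        simp [Data.u, mul_assoc]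
      rw [e1, ← hk]
      simp
      rfl
    · intro θ f hf hfV a' h
      refine weight_square D hS hzX hzM hC θ f (mem_mapS.1 hf) (fun h1 => hfV (mem_mapS.2 h1)) a' ?_
      apply mem_mapS.1
      have e2 : ((θ f * (f ^ a')⁻¹ : S) : Ω) = ((θ f : S) : Ω) * ((f : Ω) ^ a')⁻¹ := by simp
      rw [e2]
      exact h

end pack

end Cfsg.Agent.Lib.Fusion.RankTwo
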