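import Mathlib
import Cfsg.Prelude.Def_FusionSystem
import Cfsg.Agent.Lib.Fusion.Basic
import Cfsg.Agent.Lib.Fusion.Saturated
import Cfsg.Agent.Lib.Fusion.Saturated2
import Cfsg.Agent.Lib.Fusion.NormalCR
import Cfsg.Agent.Lib.Fusion.Chain
import Cfsg.Agent.Lib.Fusion.ModelF
import Cfsg.Agent.Lib.Fusion.GroupSylow
import Cfsg.Agent.Lib.Fusion.Meta.Frat
import Cfsg.Agent.Lib.Fusion.RankTwo.Linear
import Cfsg.Agent.Lib.Fusion.RankTwo.Pack

set_option autoImplicit false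
set_option linter.unusedSectionVars false

/-!
# The subgroup `K = E C` in a saturated fusion system on a rank two `p`-group, `p ≥ 5`
-/

namespace Cfsg.Agent.Lib.Fusion.RankTwo

open Cfsg Cfsg.FusionSystem Subgroup
open Cfsg.Agent.Lib.Fusion.Basic Cfsg.Agent.Lib.Fusion.Saturated Cfsg.Agent.Lib.Fusion.NormalCR
open Cfsg.Agent.Lib.Fusion.Chain Cfsg.Agent.Lib.Fusion.Meta.Frat
open scoped commutatorElement

section group

variable {T : Type*} [Group T] [Finite T] {p : ℕ} [hp : Fact p.Prime]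

/-- An automorphism of order prime to `p` of a cyclic `p`-group with a nontrivial fixed point is
trivial. -/
theorem eq_one_of_cyclic_fix [IsCyclic T] (hT : IsPGroup p T) (δ : MulAut T)
    (hc : (orderOf δ).Coprime p) {w : T} (hw1 : w ≠ 1) (hw : δ w = w) : δ = 1 := by
  classical
  obtain ⟨c, hgen⟩ := IsCyclic.exists_generator (α := T)
  obtain ⟨n, hn⟩ := (IsPGroup.iff_orderOf.1 hT) c
  have hpow : ∀ x : T, ∃ k : ℕ, c ^ k = x := fun x => mem_powers_iff_mem_zpowers.2 (hgen x)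
  obtain ⟨k, hk⟩ := hpow (δ c)
  obtain ⟨l, hl⟩ := hpow w
  have h1 : c ^ (k * l) = c ^ l := by
    have h2 : δ (c ^ l) = c ^ l := by rw [hl, hw]
    rw [map_pow, ← hk, ← pow_mul] at h2
    exact h2
  have hmod : k * l ≡ l [MOD p ^ n] := by
    have h2 := pow_eq_pow_iff_modEq.1 h1
    rwa [hn] at h2
  -- `k ≡ 1 mod p`
  have hk1 : (p : ℤ) ∣ (k : ℤ) - 1 := by
    by_contra hnd
    have hcop : IsCoprime ((p : ℤ) ^ n) ((k : ℤ) - 1) :=
      ((Nat.prime_iff_prime_int.1 hp.out).coprime_iff_not_dvd.2 hnd).pow_left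
    have h2 : (((p ^ n : ℕ) : ℤ)) ∣ (l : ℤ) - ((k * l : ℕ) : ℤ) := hmod.dvd
    have h3 : ((p : ℤ) ^ n) ∣ ((k : ℤ) - 1) * l := by
      have h4 : ((k : ℤ) - 1) * l = -((l : ℤ) - ((k * l : ℕ) : ℤ)) := by push_cast; ring
      rw [h4]
      exact (dvd_neg).2 (by simpa using h2)
    have h5 : ((p : ℤ) ^ n) ∣ (l : ℤ) := hcop.dvd_of_dvd_mul_left h3
    have h6 : p ^ n ∣ l := by
      have : ((p ^ n : ℕ) : ℤ) ∣ (l : ℤ) := by simpa using h5
      exact Int.natCast_dvd_natCast.1 this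
    apply hw1
    rw [← hl]
    exact orderOf_dvd_iff_pow_eq_one.1 (by rw [hn]; exact h6)
  have hk0 : 1 ≤ k := by
    rcases Nat.eq_zero_or_pos k with rfl | h
    · exfalso
      obtain ⟨m, hm⟩ := hk1
      have h2 : (p : ℤ) ∣ 1 := ⟨-m, by push_cast at hm; linarith⟩
      have h3 := Int.natCast_dvd_natCast.1 (by simpa using h2 : ((p : ℕ) : ℤ) ∣ ((1 : ℕ) : ℤ))
      exact hp.out.one_lt.ne' (Nat.dvd_one.1 h3)
    · exact h
  obtain ⟨m, hm⟩ : ∃ m : ℕ, k = 1 + p * m := by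
    have h2 : (p : ℤ) ∣ ((k - 1 : ℕ) : ℤ) := by
      rw [Nat.cast_sub hk0]
      simpa using hk1
    obtain ⟨m, hm⟩ := Int.natCast_dvd_natCast.1 h2
    exact ⟨m, by omega⟩
  refine aut_eq_one_of_frattini hT δ hc fun x => ?_
  obtain ⟨i, rfl⟩ := hpow x
  have h2 : δ (c ^ i) = c ^ i * ((c ^ m) ^ i) ^ p := by
    rw [map_pow, ← hk, hm, ← pow_mul, ← pow_mul, ← pow_mul, ← pow_add]
    congr 1
    ring
  rw [h2, inv_mul_cancel_left]
  exact Cfsg.Agent.Lib.PGroup.FrattiniBasis.pow_mem_frattini hT _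

theorem frat_comm_p (hT : IsPGroup p T) (a b : T ⧸ frattini T) : a * b = b * a := by
  obtain ⟨x, rfl⟩ := QuotientGroup.mk_surjective a
  obtain ⟨y, rfl⟩ := QuotientGroup.mk_surjective b
  have h1 : ⁅x, y⁆ ∈ frattini T :=
    Cfsg.Agent.Lib.PGroup.FrattiniBasis.commutator_le_frattini hT
      (Subgroup.commutator_mem_commutator trivial trivial)
  have h2 : ((⁅x, y⁆ : T) : T ⧸ frattini T) = 1 := (QuotientGroup.eq_one_iff _).2 h1
  rw [commutatorElement_def, QuotientGroup.mk_mul, QuotientGroup.mk_mul, QuotientGroup.mk_mul,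
    QuotientGroup.mk_inv, QuotientGroup.mk_inv] at h2
  have h3 := congrArg (· * ((y : T) : T ⧸ frattini T) * ((x : T) : T ⧸ frattini T)) h2
  simpa [mul_assoc] using h3

theorem frat_exp_p (hT : IsPGroup p T) (v : T ⧸ frattini T) : v ^ p = 1 := by
  obtain ⟨x, rfl⟩ := QuotientGroup.mk_surjective v
  rw [← QuotientGroup.mk_pow]
  exact (QuotientGroup.eq_one_iff _).2 (Cfsg.Agent.Lib.PGroup.FrattiniBasis.pow_mem_frattini hT x)

/-- The Frattini subgroup of an extraspecial group of order `p³` and exponent `p`. -/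
theorem frat_facts (hT : IsPGroup p T) {w₀ : T} (hw₀ : orderOf w₀ = p) (hcent : ∀ g, g * w₀ = w₀ * g)
    (hc : ∀ a b : T, ⁅a, b⁆ ∈ zpowers w₀) (hna : ∃ a b : T, ⁅a, b⁆ ≠ 1) (hexp : ∀ x : T, x ^ p = 1)
    (hcard : Nat.card T = p ^ 3) : frattini T = zpowers w₀ ∧ Nat.card (T ⧸ frattini T) = p ^ 2 := by
  have hNn : (zpowers w₀).Normal := by
    refine ⟨fun a ha g => ?_⟩
    obtain ⟨k, rfl⟩ := ha
    have h1 : Commute g w₀ := hcent g
    have h2 : g * w₀ ^ k * g⁻¹ = w₀ ^ k := by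
      rw [(h1.zpow_right k).eq]
      group
    simp only at h2 ⊢
    rw [h2]
    exact ⟨k, rfl⟩
  have hle : frattini T ≤ zpowers w₀ :=
    Cfsg.Agent.Lib.PGroup.ActionFrattini.frattini_le hT _
      (by
        show ⁅(⊤ : Subgroup T), (⊤ : Subgroup T)⁆ ≤ _
        rw [Subgroup.commutator_le]
        intro a _ b _
        exact hc a b)
      (fun x => by rw [hexp]; exact one_mem _)
  have hge : zpowers w₀ ≤ frattini T := by
    obtain ⟨a, b, hab⟩ := hna
    have h1 : ⁅a, b⁆ ∈ frattini T :=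
      Cfsg.Agent.Lib.PGroup.FrattiniBasis.commutator_le_frattini hT
        (Subgroup.commutator_mem_commutator trivial trivial)
    have ho : orderOf ⁅a, b⁆ = p := orderOf_eq_prime (hexp _) hab
    have h2 : zpowers ⁅a, b⁆ = zpowers w₀ :=
      Subgroup.eq_of_le_of_card_ge (zpowers_le.2 (hc a b))
        (by rw [Nat.card_zpowers, Nat.card_zpowers, ho, hw₀])
    rw [← h2]
    exact zpowers_le.2 h1
  have heq := le_antisymm hle hge
  refine ⟨heq, ?_⟩
  have h1 := Subgroup.card_eq_card_quotient_mul_card_subgroup (frattini T)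
  rw [heq, Nat.card_zpowers, hw₀, hcard, pow_succ] at h1
  rw [heq]
  exact (Nat.eq_of_mul_eq_mul_right hp.out.pos h1).symm

end group

variable {Ω : Type*} [Group Ω] {S : Subgroup Ω} [Finite S] {p : ℕ} [hp : Fact p.Prime]
  {F : FusionSystem S}

omit [Finite S] hp in
theorem stronglyClosed_E (P : Pack S p) : F.StronglyClosed P.E := by
  refine ⟨P.hES, fun R hR φ hφ x => (P.hEmem _ (map_mem_S hφ x)).2 ?_⟩
  have h1 : x ^ p = 1 := by
    apply Subtype.ext
    simpa using (P.hEmem _ (P.hES (hR x.2))).1 (hR x.2)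
  rw [← map_pow, h1, map_one]

/-- Extension of an automorphism of a subgroup normal in `S`. -/
theorem exists_ext (hS : IsPGroup p S) (hF : F.IsSaturated p) {K : Subgroup Ω} (hKS : K ≤ S)
    (hKN : S ≤ normalizer (K : Set Ω)) {τ : MulAut K} (hτ : τ ∈ F.autGroup K)
    (h : ∀ g ∈ S, ∃ h' ∈ S, ∀ (x : K) (hx : g * (x : Ω) * g⁻¹ ∈ K),
      ((τ ⟨g * x * g⁻¹, hx⟩ : K) : Ω) = h' * (τ x : K) * h'⁻¹) :
    ∃ θ ∈ F.autGroup S, ∀ (x : Ω) (hxK : x ∈ K) (hxS : x ∈ S),
      ((θ ⟨x, hxS⟩ : S) : Ω) = (τ ⟨x, hxK⟩ : K) := by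
  classical
  have hFN : F.IsFullyNormalized K :=
    Cfsg.Agent.Lib.Fusion.ModelF.isFullyNormalized_of_le_normalizer hKS hKN
  let φ : K →* Ω := K.subtype.comp τ.toMonoidHom
  have hφ : φ ∈ F.Hom K := autGroup_mem_hom hKS hτ
  have hrange : φ.range = K := by
    ext y
    constructor
    · rintro ⟨x, rfl⟩
      exact (τ x).2
    · intro hy
      exact ⟨τ⁻¹ ⟨y, hy⟩, congrArg Subtype.val (MulAut.apply_inv_self _ _ ⟨y, hy⟩)⟩
  have hext : S ≤ extender S K φ := by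
    intro g hg
    obtain ⟨h', hh', hh⟩ := h g hg
    exact extender_closure_mem hg (hKN hg) hh' hh
  obtain ⟨ψ, hψ, hψag⟩ := (fullyNormalized_receptive hS hF hFN).2 K φ hφ hrange
  let ψ' : S →* Ω := ψ.comp (inclusion hext)
  have hψ' : ψ' ∈ F.Hom S := res_mem hψ hext
  have hv := map_mem_S hψ'
  refine ⟨Cfsg.Agent.Lib.Fusion.Saturated2.autOfHom ψ' (F.injective_of_mem hψ') hv,
    Cfsg.Agent.Lib.Fusion.Saturated2.autOfHom_mem hψ' hv, ?_⟩
  intro x hxK hxS
  exact hψag x hxK (hext hxS)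

section K

variable (P : Pack S p) {K : Subgroup Ω}

omit [Finite S] hp in
theorem comm_zpowers_w {g h : Ω} (hg : g ∈ S) (hh : h ∈ zpowers P.w) : g * h = h * g := by
  obtain ⟨k, rfl⟩ := hh
  exact ((show Commute g P.w from P.hwZ g hg).zpow_right k).eq

omit [Finite S] hp in
/-- Coordinates on `V`. -/
theorem mem_V_form {v : Ω} (hv : v ∈ P.V) : ∃ i j : ℤ, v = P.y ^ i * P.w ^ j := by
  have hyS : P.y ∈ S := P.hES (P.hVE P.hyV)
  have hN : zpowers P.y ≤ normalizer ((zpowers P.w : Subgroup Ω) : Set Ω) := by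
    rw [zpowers_le, mem_normalizer_iff]
    intro h
    constructor
    · intro hh
      rw [comm_zpowers_w P hyS hh]
      simpa using hh
    · intro hh
      have e : h = P.y⁻¹ * (P.y * h * P.y⁻¹) * P.y := by group
      rw [e, comm_zpowers_w P (inv_mem hyS) hh]
      simpa using hh
  have hv' : v ∈ zpowers P.y ⊔ zpowers P.w := by
    rw [sup_comm, ← P.hVeq]
    exact hv
  obtain ⟨a, ha, b, hb, rfl⟩ := Cfsg.Agent.Lib.Fusion.GroupSylow.exists_mul_of_mem_sup hN hv'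
  obtain ⟨i, rfl⟩ := ha
  obtain ⟨j, rfl⟩ := hb
  exact ⟨i, j, rfl⟩

omit [Finite S] hp in
theorem K_normal (hK : K = P.E ⊔ P.C) (hKS : K ≤ S) : S ≤ normalizer (K : Set Ω) := by
  have hEK : P.E ≤ K := hK ▸ le_sup_left
  refine Subgroup.le_normalizer_iff.2 fun g hg k hk => ?_
  have h1 : ⁅g, k⁆ ∈ K := hEK (P.hVE (P.hSV g hg k (hKS hk)))
  have e : g * k * g⁻¹ = ⁅g, k⁆ * k := by
    rw [commutatorElement_def]
    group
  rw [e]
  exact K.mul_mem h1 hk

/-- The action on `E / Φ(E)`. -/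
noncomputable def rhoK (hKS : K ≤ S) :
    F.autGroup K →* MulAut (↥(P.E.subgroupOf K) ⧸ frattini ↥(P.E.subgroupOf K)) :=
  (fratAut ↥(P.E.subgroupOf K)).comp (resAut (F.autGroup K) (P.E.subgroupOf K)
    (fun _ hα x hx => StronglyClosed.aut_mem (stronglyClosed_E (F := F) P) hKS hα x hx))

omit [Finite S] hp in
theorem w_inv (hK : K = P.E ⊔ P.C) (hKS : K ≤ S) {β : MulAut K} (hβ : β ∈ F.autGroup K) (x : K)
    (hx : (x : Ω) ∈ zpowers P.w) : ((β x : K) : Ω) ∈ zpowers P.w := by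
  have hSC := stronglyClosed_E (F := F) P
  have hEK : P.E ≤ K := hK ▸ le_sup_left
  have hwE : P.w ∈ P.E := P.hVE P.hwV
  let w₁ : K := ⟨P.w, hEK hwE⟩
  have hβw : ((β w₁ : K) : Ω) ∈ zpowers P.w := by
    refine P.hZE _ (StronglyClosed.aut_mem hSC hKS hβ w₁ hwE) ?_
    intro e' he'
    let e₀ : K := β⁻¹ ⟨e', hEK he'⟩
    have he₀ : (e₀ : Ω) ∈ P.E :=
      StronglyClosed.aut_mem hSC hKS ((F.autGroup K).inv_mem hβ) ⟨e', hEK he'⟩ he'
    have h1 : w₁ * e₀ = e₀ * w₁ := by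
      apply Subtype.ext
      exact (P.hwZ _ (P.hES he₀)).symm
    have h2 := congrArg β h1
    rw [map_mul, map_mul] at h2
    have h3 : β e₀ = ⟨e', hEK he'⟩ := MulAut.apply_inv_self _ _ _
    rw [h3] at h2
    exact congrArg Subtype.val h2
  obtain ⟨k, hk⟩ := hx
  have hxk : x = w₁ ^ k := Subtype.ext (by simpa [w₁] using hk.symm)
  rw [hxk, map_zpow]
  simpa using Subgroup.zpow_mem _ hβw k

/-- `ρ` has a `p`-group as a kernel. -/
theorem rhoK_ker_le (hS : IsPGroup p S) (hK : K = P.E ⊔ P.C) (hKS : K ≤ S) :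
    (rhoK (F := F) P hKS).ker ≤ pCore p (F.autGroup K) := by
  classical
  have hfinK : Finite K := finite_of_le hKS
  have hKp : IsPGroup p K := isPGroup_of_le hS hKS
  have hSC := stronglyClosed_E (F := F) P
  have hEK : P.E ≤ K := hK ▸ le_sup_left
  have hCK : P.C ≤ K := hK ▸ le_sup_right
  have hfinA : Finite (MulAut K) :=
    Finite.of_injective (fun f : MulAut K => (f : K → K)) DFunLike.coe_injective
  let B := F.autGroup K
  let TT : Subgroup K := P.E.subgroupOf K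
  let CC : Subgroup K := P.C.subgroupOf K
  have hinv : ∀ α ∈ B, ∀ x ∈ TT, α x ∈ TT := fun _ hα x hx => StronglyClosed.aut_mem hSC hKS hα x hx
  have hinvC : ∀ α ∈ B, ∀ x ∈ CC, α x ∈ CC := by
    intro α hα x hx
    have hx' := (P.hCmem _).1 hx
    refine (P.hCmem _).2 ⟨hKS (α x).2, ?_⟩
    intro e he
    let e₀ : K := α⁻¹ ⟨e, hEK he⟩
    have he₀ : (e₀ : Ω) ∈ P.E :=
      StronglyClosed.aut_mem hSC hKS (B.inv_mem hα) ⟨e, hEK he⟩ he
    have h1 : x * e₀ = e₀ * x := Subtype.ext (hx'.2 _ he₀)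
    have h2 := congrArg α h1
    rw [map_mul, map_mul] at h2
    have h3 : α e₀ = ⟨e, hEK he⟩ := MulAut.apply_inv_self _ _ _
    rw [h3] at h2
    exact congrArg Subtype.val h2
  have hTp : IsPGroup p TT := hKp.to_subgroup _
  have hCp : IsPGroup p CC := hKp.to_subgroup _
  have hcyc : IsCyclic CC := by
    have h1 := P.hCcyc
    let e := (Subgroup.subgroupOfEquivOfLe hCK)
    exact isCyclic_of_injective e.toMonoidHom e.injective
  have hfinB : Finite B := inferInstance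
  have hnormal : (rhoK (F := F) P hKS).ker.Normal := inferInstance
  refine Cfsg.Agent.Lib.Basic.PCore.le_pCore hnormal ?_
  refine Cfsg.Agent.Lib.Coprime.Stability.isPGroup_of_forall_coprime hp.out _ ?_
  intro δ hδ hc
  have hδ1 : rhoK (F := F) P hKS δ = 1 := hδ
  have hcB : (orderOf (δ : B)).Coprime p := hc
  -- on `E`
  have hδE : resAut B TT hinv δ = 1 := by
    refine aut_eq_one_of_frattini hTp _
      (Nat.Coprime.coprime_dvd_left (orderOf_map_dvd _ δ) hcB) ?_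
    intro x
    rw [← QuotientGroup.eq_one_iff]
    have h3 : fratAut TT (resAut B TT hinv δ) (x : TT ⧸ frattini TT) = (x : TT ⧸ frattini TT) := by
      have : rhoK (F := F) P hKS δ (x : TT ⧸ frattini TT) = (x : TT ⧸ frattini TT) := by
        rw [hδ1]; rfl
      exact this
    rw [fratAut_mk] at h3
    rw [QuotientGroup.mk_mul, QuotientGroup.mk_inv, h3]
    simp
  have hfixE : ∀ x : K, (x : Ω) ∈ P.E → ((δ : MulAut K) x : K) = x := by
    intro x hx
    have h4 : resAut B TT hinv δ ⟨x, hx⟩ = ⟨x, hx⟩ := by rw [hδE]; rfl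
    exact congrArg Subtype.val h4
  -- on `C`
  have hwE : P.w ∈ P.E := P.hVE P.hwV
  have hwC : P.w ∈ P.C := (P.hCmem _).2 ⟨P.hES hwE, fun e he => (P.hwZ e (P.hES he)).symm⟩
  have hδC : resAut B CC hinvC δ = 1 := by
    let w₂ : CC := ⟨⟨P.w, hCK hwC⟩, hwC⟩
    refine eq_one_of_cyclic_fix hCp _ (Nat.Coprime.coprime_dvd_left (orderOf_map_dvd _ δ) hcB)
      (w := w₂) ?_ ?_
    · intro h
      have h1 : P.w = 1 := congrArg (fun t : CC => ((t : K) : Ω)) h
      have h2 := P.hwo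
      rw [h1, orderOf_one] at h2
      exact hp.out.one_lt.ne h2
    · exact Subtype.ext (hfixE ⟨P.w, hCK hwC⟩ hwE)
  have hfixC : ∀ x : K, (x : Ω) ∈ P.C → ((δ : MulAut K) x : K) = x := by
    intro x hx
    have h4 : resAut B CC hinvC δ ⟨x, hx⟩ = ⟨x, hx⟩ := by rw [hδC]; rfl
    exact congrArg Subtype.val h4
  -- on `K`
  apply Subtype.ext
  ext x
  let L : Subgroup Ω := (MonoidHom.eqLocus (δ.1 : MulAut K).toMonoidHom (MonoidHom.id K)).map K.subtype
  have hEL : P.E ≤ L := fun e he => ⟨⟨e, hEK he⟩, hfixE ⟨e, hEK he⟩ he, rfl⟩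
  have hCL : P.C ≤ L := fun e he => ⟨⟨e, hCK he⟩, hfixC ⟨e, hCK he⟩ he, rfl⟩
  have hKL : K ≤ L := hK ▸ sup_le hEL hCL
  obtain ⟨y, hy, hyx⟩ := hKL x.2
  have hyx' : y = x := Subtype.ext hyx
  rw [← hyx']
  exact congrArg Subtype.val hy

end K

end Cfsg.Agent.Lib.Fusion.RankTwo
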