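import Mathlib
import Cfsg.Agent.Lib.Fusion.RankTwo.KLevel

set_option autoImplicit false
set_option linter.unusedSectionVars false

/-!
# An invariant subgroup containing the commutators with an element outside `O_p(A)`
-/

namespace Cfsg.Agent.Lib.Fusion.RankTwo

open Cfsg Cfsg.Agent.Lib.Fusion.Chain Cfsg.Agent.Lib.Fusion.Meta.Frat

variable {G : Type*} [Group G] [Finite G] {p : ℕ} [hp : Fact p.Prime]

/-- An element of `A` stabilizing an `A`-invariant chain in `G/Φ(G)` lies in `O_p(A)`. -/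
theorem mem_pCore_of_stab_frat (hG : IsPGroup p G) (A : Subgroup (MulAut G))
    (ℓ : Subgroup (G ⧸ frattini G)) (hℓ : ∀ α ∈ A, ∀ x ∈ ℓ, fratAut G α x ∈ ℓ) {γ : A}
    (h1 : ∀ x ∈ ℓ, fratAut G γ.1 x = x) (h2 : ∀ x, x⁻¹ * fratAut G γ.1 x ∈ ℓ) : γ ∈ pCore p A := by
  classical
  have hVp : IsPGroup p (G ⧸ frattini G) := hG.to_quotient _
  let ρ : A →* MulAut (G ⧸ frattini G) := (fratAut G).comp A.subtype
  let D₁ : ℕ → Subgroup (G ⧸ frattini G) := fun i => if i = 0 then ⊥ else if i = 1 then ℓ else ⊤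
  let A₁ : Subgroup (MulAut (G ⧸ frattini G)) := ρ.range
  have hD₁ : ∀ i ≤ 2, ∀ α ∈ A₁, ∀ x ∈ D₁ i, α x ∈ D₁ i := by
    rintro i _ _ ⟨α, rfl⟩ x hx
    by_cases hi : i = 0
    · subst hi
      have hx' : x = 1 := hx
      rw [hx', map_one]
      exact one_mem _
    · by_cases hi1 : i = 1
      · subst hi1
        exact hℓ α.1 α.2 x hx
      · simp [D₁, hi, hi1]
  let S₁ : Subgroup A₁ := chainStab A₁ D₁ 2 hD₁
  have hS₁ : S₁.Normal := chainStab_normal A₁ D₁ 2 hD₁
  let K : Subgroup A := S₁.comap ρ.rangeRestrict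
  have hKn : K.Normal := hS₁.comap _
  have hfinA : Finite A := Finite.of_injective (fun f : A => (f.1 : G → G))
    (fun _ _ h => Subtype.ext (DFunLike.coe_injective h))
  have hKp : IsPGroup p K := by
    refine Cfsg.Agent.Lib.Coprime.Stability.isPGroup_of_forall_coprime hp.out K ?_
    intro δ hδ hc
    have hcρ : (orderOf (ρ δ)).Coprime p :=
      Nat.Coprime.coprime_dvd_left (orderOf_map_dvd ρ δ) hc
    have hρ1 : ρ δ = 1 := by
      refine eq_one_of_stab_chain hVp (D := D₁) (m := 2) rfl rfl ?_ hcρ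
      intro i hi x hx
      exact hδ i hi x hx
    have hres : (δ : MulAut G) = 1 := by
      refine aut_eq_one_of_frattini hG _ (by rwa [Subgroup.orderOf_coe]) ?_
      intro x
      rw [← QuotientGroup.eq_one_iff]
      have h3 : fratAut G δ.1 (x : G ⧸ frattini G) = (x : G ⧸ frattini G) := by
        have : ρ δ (x : G ⧸ frattini G) = (x : G ⧸ frattini G) := by rw [hρ1]; rfl
        exact this
      rw [fratAut_mk] at h3
      rw [QuotientGroup.mk_mul, QuotientGroup.mk_inv, h3]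
      simp
    exact Subtype.ext hres
  refine Cfsg.Agent.Lib.Basic.PCore.le_pCore hKn hKp ?_
  show ρ.rangeRestrict γ ∈ S₁
  intro i hi x hx
  by_cases hi0 : i = 0
  · subst hi0
    have h3 : ρ γ x = x := h1 x hx
    have : x⁻¹ * ρ γ x = 1 := by rw [h3]; simp
    show x⁻¹ * ρ γ x ∈ D₁ 0
    rw [this]
    exact one_mem _
  · have hi1 : i = 1 := by omega
    subst hi1
    exact h2 x

/-- If a `p`-element `γ ∉ O_p(A)` satisfies `[G, γ] ≤ M` for an `A`-invariant subgroup `M` of the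
metacyclic `p`-group `G`, then `M = G`. -/
theorem eq_top_of_stab (hG : IsPGroup p G) (hm : Cfsg.IsMetacyclic G) (A : Subgroup (MulAut G))
    (M : Subgroup G) (hinv : ∀ α ∈ A, ∀ x ∈ M, α x ∈ M) {γ : A} {k : ℕ} (hk : γ ^ (p ^ k) = 1)
    (h0 : ∀ x, x⁻¹ * γ.1 x ∈ M) (hnot : γ ∉ pCore p A) : M = ⊤ := by
  classical
  by_contra hM
  have hWc := frat_comm_p hG
  have hWexp := frat_exp_p hG
  have hcard : Nat.card (G ⧸ frattini G) ≤ p ^ 2 := by
    have h1 : Cfsg.IsMetacyclic (G ⧸ frattini G) :=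
      Cfsg.Agent.Lib.PGroup.HuppertA.metacyclic_of_surjective (QuotientGroup.mk' _)
        (QuotientGroup.mk'_surjective _) hm
    exact Cfsg.Agent.Lib.PGroup.HuppertA.card_le_of_metacyclic_exponent hp.out.pos h1 hWexp
  let ℓ : Subgroup (G ⧸ frattini G) := M.map (QuotientGroup.mk' (frattini G))
  have hℓ : ∀ α ∈ A, ∀ x ∈ ℓ, fratAut G α x ∈ ℓ := by
    rintro α hα _ ⟨m, hm, rfl⟩
    exact ⟨α m, hinv α hα m hm, rfl⟩
  have hℓne : ℓ ≠ ⊤ := by
    intro h
    apply hM
    have h1 : M ⊔ frattini G = ⊤ := by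
      rw [eq_top_iff]
      intro x _
      have hx : (x : G ⧸ frattini G) ∈ ℓ := by rw [h]; trivial
      obtain ⟨m, hm, hmx⟩ := hx
      have h2 : m⁻¹ * x ∈ frattini G := QuotientGroup.eq.1 hmx
      have e : x = m * (m⁻¹ * x) := by group
      rw [e]
      exact mul_mem (Subgroup.mem_sup_left hm) (Subgroup.mem_sup_right h2)
    exact frattini_nongenerating h1
  have hℓcard : Nat.card ℓ ≤ p := by
    have hQp : IsPGroup p (G ⧸ frattini G) := hG.to_quotient _
    have h1 := ℓ.card_mul_index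
    have h2 : p ≤ ℓ.index := by
      obtain ⟨n, hn⟩ := IsPGroup.iff_card.1 hQp
      have h3 : ℓ.index ∣ p ^ n := hn ▸ ℓ.index_dvd_card
      obtain ⟨j, -, hj⟩ := (Nat.dvd_prime_pow hp.out).1 h3
      have hj0 : j ≠ 0 := by
        rintro rfl
        rw [pow_zero] at hj
        exact hℓne (Subgroup.index_eq_one.1 hj)
      rw [hj]
      exact Nat.le_self_pow hj0 p
    have hp0 := hp.out.pos
    have hc : Nat.card ℓ * p ≤ p * p := by
      calc Nat.card ℓ * p ≤ Nat.card ℓ * ℓ.index := Nat.mul_le_mul_left _ h2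
        _ = Nat.card (G ⧸ frattini G) := h1
        _ ≤ p * p := by rw [← pow_two]; exact hcard
    exact Nat.le_of_mul_le_mul_right hc hp0
  let u : MulAut (G ⧸ frattini G) := fratAut G γ.1
  have huk : u ^ (p ^ k) = 1 := by
    show (fratAut G γ.1) ^ (p ^ k) = 1
    rw [← map_pow]
    have : γ.1 ^ (p ^ k) = 1 := congrArg Subtype.val hk
    rw [this, map_one]
  let instV : CommGroup (G ⧸ frattini G) :=
    { (inferInstance : Group (G ⧸ frattini G)) with mul_comm := hWc }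
  apply hnot
  refine mem_pCore_of_stab_frat hG A ℓ hℓ ?_ ?_
  · exact Linear.fix_of_line (V := G ⧸ frattini G) (p := p) hWexp hℓcard (hℓ _ γ.2) huk
  · intro x
    obtain ⟨g, rfl⟩ := QuotientGroup.mk_surjective x
    refine ⟨g⁻¹ * γ.1 g, h0 g, ?_⟩
    rw [map_mul, map_inv]
    rfl

end Cfsg.Agent.Lib.Fusion.RankTwo
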