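import Mathlib
import Cfsg.Agent.Lib.Fusion.RankTwo.KLevel

set_option autoImplicit false
set_option linter.unusedSectionVars false

/-!
# The subgroup `V` is invariant under `Aut_F(E C)`
-/

namespace Cfsg.Agent.Lib.Fusion.RankTwo

open Cfsg Cfsg.FusionSystem Subgroup
open Cfsg.Agent.Lib.Fusion.Basic Cfsg.Agent.Lib.Fusion.Saturated Cfsg.Agent.Lib.Fusion.NormalCR
open Cfsg.Agent.Lib.Fusion.Chain Cfsg.Agent.Lib.Fusion.Meta.Frat
open scoped commutatorElement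

variable {Ω : Type*} [Group Ω] {S : Subgroup Ω} [Finite S] {p : ℕ} [hp : Fact p.Prime]
  {F : FusionSystem S} (P : Pack S p) {K : Subgroup Ω}

/-- The main step: an `F`-automorphism of `E C` cannot move `y` out of `V`. -/
theorem K_inv_y (Q : PackC P) (hS : IsPGroup p S) (hF : F.IsSaturated p) (hp5 : 5 ≤ p)
    (hK : K = P.E ⊔ P.C) (hKS : K ≤ S) {β : MulAut K} (hβ : β ∈ F.autGroup K) (y₁ : K)
    (hy₁ : (y₁ : Ω) = P.y) : ((β y₁ : K) : Ω) ∈ P.V := by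
  classical
  by_contra hnot
  have hfinK : Finite K := finite_of_le hKS
  have hKp : IsPGroup p K := isPGroup_of_le hS hKS
  have hSC := stronglyClosed_E (F := F) P
  have hEK : P.E ≤ K := hK ▸ le_sup_left
  have hKN := K_normal P hK hKS
  have hfinA : Finite (MulAut K) :=
    Finite.of_injective (fun f : MulAut K => (f : K → K)) DFunLike.coe_injective
  have hFN : F.IsFullyNormalized K :=
    Cfsg.Agent.Lib.Fusion.ModelF.isFullyNormalized_of_le_normalizer hKS hKN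
  let B := F.autGroup K
  let TT : Subgroup K := P.E.subgroupOf K
  have hinv : ∀ α ∈ B, ∀ x ∈ TT, α x ∈ TT := fun _ hα x hx => StronglyClosed.aut_mem hSC hKS hα x hx
  have hTp : IsPGroup p TT := hKp.to_subgroup _
  let ρ : B →* MulAut (TT ⧸ frattini TT) := rhoK (F := F) P hKS
  have hρ : ∀ (α : B) (x : TT), ρ α (x : TT ⧸ frattini TT) =
      ((resAut B TT hinv α x : TT) : TT ⧸ frattini TT) := fun _ _ => rfl
  -- facts on `T = E`
  have hwE : P.w ∈ P.E := P.hVE P.hwV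
  have hyE : P.y ∈ P.E := P.hVE P.hyV
  let w₀ : TT := ⟨⟨P.w, hEK hwE⟩, hwE⟩
  have hw₀o : orderOf w₀ = p := by
    rw [← Subgroup.orderOf_coe, ← Subgroup.orderOf_coe]
    exact P.hwo
  have hcardT : Nat.card TT = p ^ 3 := by
    rw [Nat.card_congr (Subgroup.subgroupOfEquivOfLe hEK).toEquiv, P.hEc]
  have hexpT : ∀ x : TT, x ^ p = 1 := by
    intro x
    apply Subtype.ext
    apply Subtype.ext
    simpa using (P.hEmem _ (P.hES x.2)).1 x.2
  have hcentT : ∀ g : TT, g * w₀ = w₀ * g := by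
    intro g
    apply Subtype.ext
    apply Subtype.ext
    exact P.hwZ _ (P.hES g.2)
  have hcoe : ∀ a b : TT, (((⁅a, b⁆ : TT) : K) : Ω) = ⁅((a : K) : Ω), ((b : K) : Ω)⁆ := by
    intro a b
    simp [commutatorElement_def]
  have hcommT : ∀ a b : TT, ⁅a, b⁆ ∈ zpowers w₀ := by
    intro a b
    obtain ⟨k, hk⟩ := P.hEcomm _ a.2 _ b.2
    refine ⟨k, ?_⟩
    apply Subtype.ext
    apply Subtype.ext
    rw [hcoe]
    have e : (((w₀ ^ k : TT) : K) : Ω) = P.w ^ k := by simp [w₀]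
    show (((w₀ ^ k : TT) : K) : Ω) = _
    rw [e]
    exact hk
  have hnaT : ∃ a b : TT, ⁅a, b⁆ ≠ 1 := by
    obtain ⟨e, he, e', he', h⟩ := P.hEna
    refine ⟨⟨⟨e, hEK he⟩, he⟩, ⟨⟨e', hEK he'⟩, he'⟩, fun h1 => h ?_⟩
    have h2 := congrArg (fun t : TT => ((t : K) : Ω)) h1
    simp only [hcoe] at h2
    simpa using h2
  obtain ⟨hfr, hWcard⟩ := frat_facts hTp hw₀o hcentT hcommT hnaT hexpT hcardT
  have hWc := frat_comm_p hTp
  have hWexp := frat_exp_p hTp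
  have hmk : ∀ f : TT, (f : TT ⧸ frattini TT) = 1 ↔ ((f : K) : Ω) ∈ zpowers P.w := by
    intro f
    rw [QuotientGroup.eq_one_iff, hfr]
    constructor
    · rintro ⟨k, hk⟩
      refine ⟨k, ?_⟩
      have := congrArg (fun t : TT => ((t : K) : Ω)) hk
      simpa [w₀] using this
    · rintro ⟨k, hk⟩
      refine ⟨k, ?_⟩
      apply Subtype.ext
      apply Subtype.ext
      rw [← hk]
      simp [w₀]
  have hmkeq : ∀ f₁ f₂ : TT, (f₁ : TT ⧸ frattini TT) = f₂ ↔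
      ((f₁ : K) : Ω)⁻¹ * ((f₂ : K) : Ω) ∈ zpowers P.w := by
    intro f₁ f₂
    rw [QuotientGroup.eq, ← QuotientGroup.eq_one_iff, hmk]
    simp
  have hwV' : zpowers P.w ≤ P.V := zpowers_le.2 P.hwV
  let y₀ : TT := ⟨y₁, by show (y₁ : Ω) ∈ P.E; rw [hy₁]; exact hyE⟩
  let e₁ : TT ⧸ frattini TT := (y₀ : TT)
  have he₁ : e₁ ≠ 1 := by
    intro h
    have h2 := (hmk y₀).1 h
    apply P.hyw
    rw [← hy₁]
    exact h2
  have hy₀coe : ((y₀ : K) : Ω) = P.y := hy₁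
  -- conjugation by elements of `S`
  let cg : ∀ g : Ω, g ∈ S → B := fun g hg =>
    ⟨normConj g (hKN hg), autInducedBy_le_autGroup hKS (normConj_mem_autInducedBy hg (hKN hg))⟩
  have hcgcoe : ∀ (g : Ω) (hg : g ∈ S) (f : TT), (((resAut B TT hinv (cg g hg) f : TT) : K) : Ω) =
      g * ((f : K) : Ω) * g⁻¹ := fun _ _ _ => rfl
  have hfix : ∀ (g : Ω) (hg : g ∈ S), ρ (cg g hg) e₁ = e₁ := by
    intro g hg
    show ρ (cg g hg) (y₀ : TT ⧸ frattini TT) = (y₀ : TT)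
    rw [hρ]
    symm
    rw [hmkeq, hcgcoe g hg, hy₀coe]
    have h1 := P.hVcomm _ (inv_mem P.hyV) g hg
    have e : P.y⁻¹ * (g * P.y * g⁻¹) = ⁅P.y⁻¹, g⁆ := by
      simp [commutatorElement_def, mul_assoc]
    rw [e]
    exact h1
  -- `V` and the line of `e₁`
  have hVline : ∀ h : TT, ((h : K) : Ω) ∈ P.V → (h : TT ⧸ frattini TT) ∈ zpowers e₁ := by
    intro h hV
    obtain ⟨i, j, hij⟩ := mem_V_form P hV
    refine ⟨i, ?_⟩
    show e₁ ^ i = (h : TT ⧸ frattini TT)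
    have e2 : e₁ ^ i = ((y₀ ^ i : TT) : TT ⧸ frattini TT) := by
      rw [QuotientGroup.mk_zpow]
    rw [e2, hmkeq]
    have e3 : (((y₀ ^ i : TT) : K) : Ω) = P.y ^ i := by simp [hy₀coe]
    rw [e3, hij]
    simp
  have hshift : ∀ (g : Ω) (hg : g ∈ S) (f : TT), ∃ c : ℕ,
      ρ (cg g hg) (f : TT ⧸ frattini TT) = (f : TT ⧸ frattini TT) * e₁ ^ c := by
    intro g hg f
    let h : TT := f⁻¹ * resAut B TT hinv (cg g hg) f
    have hV : ((h : K) : Ω) ∈ P.V := by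
      have e : ((h : K) : Ω) = ⁅((f : K) : Ω)⁻¹, g⁆ := by
        show ((f : K) : Ω)⁻¹ * (g * ((f : K) : Ω) * g⁻¹) = _
        simp [commutatorElement_def, mul_assoc]
      rw [e]
      exact P.hEV _ (inv_mem f.2) g hg
    obtain ⟨c, hc⟩ := mem_powers_iff_mem_zpowers.2 (hVline h hV)
    refine ⟨c, ?_⟩
    simp only at hc
    rw [hc, hρ]
    show _ = (f : TT ⧸ frattini TT) * ((f⁻¹ * resAut B TT hinv (cg g hg) f : TT) : TT ⧸ frattini TT)
    rw [QuotientGroup.mk_mul, QuotientGroup.mk_inv, mul_inv_cancel_left]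
  -- the `p`-element
  obtain ⟨x₀, hx₀E, hx₀⟩ := Q.hu
  let u : MulAut (TT ⧸ frattini TT) := ρ (cg Q.z Q.hzS)
  obtain ⟨k, huk⟩ : ∃ k, u ^ (p ^ k) = 1 := by
    obtain ⟨k, hk⟩ := isPGroup_autInducedBy hS K
      ⟨normConj Q.z (hKN Q.hzS), normConj_mem_autInducedBy Q.hzS (hKN Q.hzS)⟩
    refine ⟨k, ?_⟩
    have h2 : (normConj Q.z (hKN Q.hzS)) ^ (p ^ k) = 1 := by
      simpa using congrArg (fun w : autInducedBy S K => (w : MulAut K)) hk
    have h3 : (cg Q.z Q.hzS) ^ (p ^ k) = 1 := Subtype.ext h2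
    show ρ _ ^ (p ^ k) = 1
    rw [← map_pow, h3, map_one]
  have hu1 : u ≠ 1 := by
    intro h
    let x₁ : TT := ⟨⟨x₀, hEK hx₀E⟩, hx₀E⟩
    have h1 : u (x₁ : TT ⧸ frattini TT) = (x₁ : TT) := by rw [h]; rfl
    have h2 : ρ (cg Q.z Q.hzS) (x₁ : TT ⧸ frattini TT) = (x₁ : TT) := h1
    rw [hρ] at h2
    have h3 := (hmkeq _ _).1 h2.symm
    apply hx₀
    rw [hcgcoe Q.z Q.hzS] at h3
    exact h3
  -- the image of `y₀`
  let β' : B := ⟨β, hβ⟩
  let f₀ : TT := resAut B TT hinv β' y₀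
  have hf₀coe : ((f₀ : K) : Ω) = ((β y₁ : K) : Ω) := rfl
  have hf₀ : (f₀ : TT ⧸ frattini TT) = ρ β' e₁ := rfl
  have hnot' : ρ β' e₁ ∉ zpowers e₁ := by
    intro h
    obtain ⟨n, hn⟩ := h
    apply hnot
    rw [← hf₀coe]
    have e2 : e₁ ^ n = ((y₀ ^ n : TT) : TT ⧸ frattini TT) := by
      rw [QuotientGroup.mk_zpow]
    simp only at hn
    rw [e2, ← hf₀, hmkeq] at hn
    have e3 : (((y₀ ^ n : TT) : K) : Ω) = P.y ^ n := by simp [hy₀coe]
    rw [e3] at hn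
    have h1 := hwV' hn
    have h2 : P.y ^ n ∈ P.V := zpow_mem P.hyV n
    have e4 : ((f₀ : K) : Ω) = P.y ^ n * ((P.y ^ n)⁻¹ * ((f₀ : K) : Ω)) := by group
    rw [e4]
    exact P.V.mul_mem h2 h1
  -- the torus element
  let a' : ℕ := (p + 1) / 2
  have hodd : Odd p := hp.out.odd_of_ne_two (by omega)
  have h2a : 2 * a' = p + 1 := by
    obtain ⟨c, hc⟩ := hodd
    show 2 * ((p + 1) / 2) = p + 1
    omega
  have haa : ((2 * a' : ℕ) : ZMod p) = 1 := by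
    rw [h2a]
    push_cast
    simp
  let instV : CommGroup (TT ⧸ frattini TT) :=
    { (inferInstance : Group (TT ⧸ frattini TT)) with mul_comm := hWc }
  obtain ⟨τ₀, ⟨τ, rfl⟩, hτ1, hτ2⟩ := Linear.exists_diag (V := TT ⧸ frattini TT) (p := p) hWexp
    hWcard.le ρ.range (u := u) ⟨cg Q.z Q.hzS, rfl⟩ huk hu1 he₁ (hfix Q.z Q.hzS) (β := ρ β') ⟨β', rfl⟩ hnot' haa
  -- it normalizes `Aut_S(K)`
  obtain ⟨R₀, hR₀⟩ := (fullyNormalized_props hS hF hFN).2.2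
  have hcore : ρ.ker ≤ R₀ := (rhoK_ker_le P hS hK hKS).trans
    (Cfsg.Agent.Lib.Basic.PCore.pCore_le_sylow R₀)
  have hcgR : ∀ (g : Ω) (hg : g ∈ S), cg g hg ∈ (R₀ : Subgroup B) := by
    intro g hg
    rw [hR₀]
    exact normConj_mem_autInducedBy hg (hKN hg)
  have hconj : ∀ (g : Ω) (hg : g ∈ S), τ * cg g hg * τ⁻¹ ∈ (R₀ : Subgroup B) := by
    intro g hg
    obtain ⟨c, hc⟩ := hshift g hg f₀
    have h1 : ρ τ * ρ (cg g hg) = ρ (cg g hg) ^ (2 * 2) * ρ τ :=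
      Linear.diag_conj (V := TT ⧸ frattini TT) (p := p) hWexp hWcard.le he₁ hnot' haa hτ1 hτ2
        (hfix g hg) hc
    have h2 : τ * cg g hg * τ⁻¹ * ((cg g hg) ^ (2 * 2))⁻¹ ∈ ρ.ker := by
      rw [MonoidHom.mem_ker, map_mul, map_mul, map_mul, map_inv, map_inv, map_pow, h1]
      group
    have h3 := hcore h2
    have h4 := (R₀ : Subgroup B).mul_mem h3 ((R₀ : Subgroup B).pow_mem (hcgR g hg) (2 * 2))
    simpa using h4
  obtain ⟨θ, hθ, hθag⟩ := exists_ext hS hF hKS hKN τ.2 (by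
    intro g hg
    have h1 := hconj g hg
    rw [hR₀] at h1
    obtain ⟨h', hh', hh⟩ := mem_autInducedBy_iff.1 h1
    refine ⟨h', hh', ?_⟩
    intro x hx
    have h2 : ((((τ * cg g hg * τ⁻¹ : B) : MulAut K) (τ.1 x) : K) : Ω) = h' * (τ.1 x : K) * h'⁻¹ :=
      hh (τ.1 x)
    have e : ((τ * cg g hg * τ⁻¹ : B) : MulAut K) (τ.1 x) = τ.1 ⟨g * x * g⁻¹, hx⟩ := by
      show τ.1 ((normConj g (hKN hg)) (τ.1⁻¹ (τ.1 x))) = _
      rw [MulAut.inv_apply_self]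
      rfl
    rw [e] at h2
    exact h2)
  -- the final contradiction
  have hfS : ((f₀ : K) : Ω) ∈ S := P.hES f₀.2
  have hrel : ((θ ⟨((f₀ : K) : Ω), hfS⟩ : S) : Ω) * (((f₀ : K) : Ω) ^ a')⁻¹ ∈ P.V := by
    rw [hθag _ (f₀ : K).2 hfS]
    have h1 : (f₀ : TT ⧸ frattini TT) ^ a' = ρ τ (f₀ : TT ⧸ frattini TT) := by
      rw [hf₀]
      exact hτ2.symm
    rw [hρ, ← QuotientGroup.mk_pow, hmkeq] at h1
    have h2 : (((f₀ ^ a' : TT) : K) : Ω) = ((f₀ : K) : Ω) ^ a' := by simp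
    rw [h2] at h1
    set t := ((f₀ : K) : Ω) ^ a' with ht
    have htS : t ∈ S := S.pow_mem hfS a'
    have h1' : t⁻¹ * ((τ.1 (f₀ : K) : K) : Ω) ∈ zpowers P.w := h1
    have e : ((τ.1 (f₀ : K) : K) : Ω) * t⁻¹ = t * (t⁻¹ * ((τ.1 (f₀ : K) : K) : Ω)) * t⁻¹ := by group
    have h3 : t * (t⁻¹ * ((τ.1 (f₀ : K) : K) : Ω)) * t⁻¹ = t⁻¹ * ((τ.1 (f₀ : K) : K) : Ω) := by
      have h4 := comm_zpowers_w P htS h1'
      rw [h4]
      group
    have e5 : (⟨((f₀ : K) : Ω), (f₀ : K).2⟩ : K) = (f₀ : K) := rfl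
    rw [e5, e, h3]
    exact hwV' h1'
  have hmod := Q.hweights θ ⟨((f₀ : K) : Ω), hfS⟩ f₀.2 hnot a' hrel
  -- `a'² ≡ 1` and `2 a' ≡ 1` give `p ∣ 3`
  have hz : ((a' * a' : ℕ) : ZMod p) = ((1 : ℕ) : ZMod p) := (ZMod.natCast_eq_natCast_iff _ _ _).2 hmod
  have haa' : (2 : ZMod p) * (a' : ZMod p) = 1 := by
    have := haa
    push_cast at this
    exact this
  have h3 : (3 : ZMod p) = 0 := by
    push_cast at hz
    have h4 : (2 : ZMod p) * (2 : ZMod p) = 1 := by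
      have h5 : ((2 : ZMod p) * (a' : ZMod p)) * ((2 : ZMod p) * (a' : ZMod p)) = 1 := by
        rw [haa', one_mul]
      have h6 : ((2 : ZMod p) * (a' : ZMod p)) * ((2 : ZMod p) * (a' : ZMod p)) =
          (2 : ZMod p) * 2 * ((a' : ZMod p) * a') := by ring
      rw [h6, hz, mul_one] at h5
      exact h5
    linear_combination h4
  have h4 : p ∣ 3 := by
    have : ((3 : ℕ) : ZMod p) = 0 := by exact_mod_cast h3
    exact (ZMod.natCast_eq_zero_iff 3 p).1 this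
  have h5 := Nat.le_of_dvd (by norm_num) h4
  omega

/-- `V` is invariant under `Aut_F(E C)`. -/
theorem K_inv_V (Q : PackC P) (hS : IsPGroup p S) (hF : F.IsSaturated p) (hp5 : 5 ≤ p)
    (hK : K = P.E ⊔ P.C) (hKS : K ≤ S) {β : MulAut K} (hβ : β ∈ F.autGroup K) (v : K)
    (hv : (v : Ω) ∈ P.V) : ((β v : K) : Ω) ∈ P.V := by
  have hEK : P.E ≤ K := hK ▸ le_sup_left
  let y₁ : K := ⟨P.y, hEK (P.hVE P.hyV)⟩
  let w₁ : K := ⟨P.w, hEK (P.hVE P.hwV)⟩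
  have h1 : ((β y₁ : K) : Ω) ∈ P.V := K_inv_y P Q hS hF hp5 hK hKS hβ y₁ rfl
  have h2 : ((β w₁ : K) : Ω) ∈ zpowers P.w := w_inv P hK hKS hβ w₁ (mem_zpowers _)
  have h3 : ((β w₁ : K) : Ω) ∈ P.V := (zpowers_le.2 P.hwV) h2
  obtain ⟨i, j, hij⟩ := mem_V_form P hv
  have e : v = y₁ ^ i * w₁ ^ j := Subtype.ext (by simpa [y₁, w₁] using hij)
  rw [e, map_mul, map_zpow, map_zpow]
  have e2 : (((β y₁) ^ i * (β w₁) ^ j : K) : Ω) = ((β y₁ : K) : Ω) ^ i * ((β w₁ : K) : Ω) ^ j := by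
    simp
  rw [e2]
  exact P.V.mul_mem (zpow_mem h1 i) (zpow_mem h3 j)

/-- Conjugation by an element of `S` stabilizes a chain in `K`. -/
theorem K_core (Q : PackC P) (hS : IsPGroup p S) (hF : F.IsSaturated p) (hp5 : 5 ≤ p)
    (hK : K = P.E ⊔ P.C) (hKS : K ≤ S) {g : Ω} (hg : g ∈ S) {α : F.autGroup K}
    (hα : ∀ x : K, ((α.1 x : K) : Ω) = g * x * g⁻¹) : α ∈ pCore p (F.autGroup K) := by
  classical
  have hfinK : Finite K := finite_of_le hKS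
  have hKp : IsPGroup p K := isPGroup_of_le hS hKS
  have hSC := stronglyClosed_E (F := F) P
  let D : ℕ → Subgroup K := fun i =>
    if i = 0 then ⊥ else if i = 1 then (zpowers P.w).subgroupOf K else
      if i = 2 then P.V.subgroupOf K else if i = 3 then P.E.subgroupOf K else ⊤
  have hD0 : D 0 = ⊥ := rfl
  have hD1 : D 1 = (zpowers P.w).subgroupOf K := rfl
  have hD2 : D 2 = P.V.subgroupOf K := rfl
  have hD3 : D 3 = P.E.subgroupOf K := rfl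
  have hD4 : D 4 = ⊤ := rfl
  refine mem_pCore_of_stab_chain (D := D) (m := 4) hKp hD0 hD4 ?_ ?_
  · intro i hi β hβ x hx
    interval_cases i
    · rw [hD0] at hx ⊢
      rw [Subgroup.mem_bot] at hx ⊢
      rw [hx, map_one]
    · rw [hD1] at hx ⊢
      exact w_inv P hK hKS hβ x hx
    · rw [hD2] at hx ⊢
      exact K_inv_V P Q hS hF hp5 hK hKS hβ x hx
    · rw [hD3] at hx ⊢
      exact StronglyClosed.aut_mem hSC hKS hβ x hx
    · rw [hD4]
      trivial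
  · intro i hi x hx
    have hxS : (x : Ω) ∈ S := hKS x.2
    have e : ((x⁻¹ * α.1 x : K) : Ω) = ⁅(x : Ω)⁻¹, g⁆ := by
      show (x : Ω)⁻¹ * ((α.1 x : K) : Ω) = _
      rw [hα]
      simp [commutatorElement_def, mul_assoc]
    interval_cases i
    · rw [hD1] at hx
      rw [hD0, Subgroup.mem_bot]
      apply Subtype.ext
      rw [e]
      have hx' : (x : Ω)⁻¹ ∈ zpowers P.w := inv_mem hx
      have h1 := comm_zpowers_w P hg hx'
      show ⁅(x : Ω)⁻¹, g⁆ = 1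
      rw [commutatorElement_eq_one_iff_mul_comm]
      exact h1.symm
    · rw [hD2] at hx
      rw [hD1]
      show ((x⁻¹ * α.1 x : K) : Ω) ∈ zpowers P.w
      rw [e]
      exact P.hVcomm _ (inv_mem hx) g hg
    · rw [hD3] at hx
      rw [hD2]
      show ((x⁻¹ * α.1 x : K) : Ω) ∈ P.V
      rw [e]
      exact P.hEV _ (inv_mem hx) g hg
    · rw [hD3]
      show ((x⁻¹ * α.1 x : K) : Ω) ∈ P.E
      rw [e]
      exact P.hVE (P.hSV _ (S.inv_mem hxS) g hg)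

/-- All `F`-automorphisms of `K` extend to `S`. -/
theorem K_ext (Q : PackC P) (hS : IsPGroup p S) (hF : F.IsSaturated p) (hp5 : 5 ≤ p)
    (hK : K = P.E ⊔ P.C) (hKS : K ≤ S) {τ : MulAut K} (hτ : τ ∈ F.autGroup K) :
    ∃ θ ∈ F.autGroup S, ∀ (x : Ω) (hxK : x ∈ K) (hxS : x ∈ S),
      ((θ ⟨x, hxS⟩ : S) : Ω) = (τ ⟨x, hxK⟩ : K) := by
  classical
  have hfinK : Finite K := finite_of_le hKS
  have hKN := K_normal P hK hKS
  have hfinA : Finite (MulAut K) :=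
    Finite.of_injective (fun f : MulAut K => (f : K → K)) DFunLike.coe_injective
  have hFN : F.IsFullyNormalized K :=
    Cfsg.Agent.Lib.Fusion.ModelF.isFullyNormalized_of_le_normalizer hKS hKN
  obtain ⟨R₀, hR₀⟩ := (fullyNormalized_props hS hF hFN).2.2
  refine exists_ext hS hF hKS hKN hτ ?_
  intro g hg
  let B := F.autGroup K
  let c : B := ⟨normConj g (hKN hg), autInducedBy_le_autGroup hKS (normConj_mem_autInducedBy hg (hKN hg))⟩
  have hc : c ∈ pCore p B := K_core P Q hS hF hp5 hK hKS hg (fun _ => rfl)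
  have hn := Cfsg.Agent.Lib.Basic.PCore.pCore_normal p B
  let τ' : B := ⟨τ, hτ⟩
  have h1 : τ' * c * τ'⁻¹ ∈ pCore p B := hn.conj_mem c hc τ'
  have h2 : τ' * c * τ'⁻¹ ∈ (R₀ : Subgroup B) := Cfsg.Agent.Lib.Basic.PCore.pCore_le_sylow R₀ h1
  rw [hR₀] at h2
  obtain ⟨h', hh', hh⟩ := mem_autInducedBy_iff.1 h2
  refine ⟨h', hh', ?_⟩
  intro x hx
  have h3 : ((((τ' * c * τ'⁻¹ : B) : MulAut K) (τ x) : K) : Ω) = h' * (τ x : K) * h'⁻¹ := hh (τ x)
  have e : ((τ' * c * τ'⁻¹ : B) : MulAut K) (τ x) = τ ⟨g * x * g⁻¹, hx⟩ := by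
    show τ ((normConj g (hKN hg)) (τ⁻¹ (τ x))) = _
    rw [MulAut.inv_apply_self]
    rfl
  rw [e] at h3
  exact h3

end Cfsg.Agent.Lib.Fusion.RankTwo
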