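import Mathlib
import Cfsg.Agent.Lib.Fusion.RankTwo.KInv
import Cfsg.Agent.Lib.Fusion.RankTwo.Irred
import Cfsg.Agent.Lib.Fusion.RadicalConj
import Cfsg.Agent.Lib.Fusion.Meta.Main

set_option autoImplicit false
set_option linter.unusedSectionVars false

/-!
# Rank two `p`-groups, `p ≥ 5`, other than `p₊^{1+2}` are resistant
-/

namespace Cfsg.Agent.Lib.Fusion.RankTwo

open Cfsg Cfsg.FusionSystem Subgroup
open Cfsg.Agent.Lib.Fusion.Basic Cfsg.Agent.Lib.Fusion.Saturated Cfsg.Agent.Lib.Fusion.NormalCR
open Cfsg.Agent.Lib.Fusion.Chain Cfsg.Agent.Lib.Fusion.Meta.Frat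
open scoped commutatorElement

variable {Ω : Type*} [Group Ω] {S : Subgroup Ω} [Finite S] {p : ℕ} [hp : Fact p.Prime]
  {F : FusionSystem S}

omit [Finite S] hp in
theorem prank_of_le (hr3 : ∀ E : Subgroup Ω, E ≤ S → Cfsg.IsElementaryAbelian p E → Nat.card E ≤ p ^ 2)
    {H : Subgroup Ω} (hH : H ≤ S) : Cfsg.PRankLE p 2 H := by
  intro A hAc hAe
  have h1 := hr3 (A.map H.subtype) ((Subgroup.map_subtype_le A).trans hH) ?_
  · rwa [Subgroup.card_map_of_injective H.subtype_injective] at h1
  · refine ⟨⟨⟨?_⟩⟩, ?_⟩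
    · rintro ⟨_, a, ha, rfl⟩ ⟨_, b, hb, rfl⟩
      apply Subtype.ext
      have h2 := hAc.is_comm.comm ⟨a, ha⟩ ⟨b, hb⟩
      exact congrArg (fun t : A => ((t : H) : Ω)) h2
    · rintro _ ⟨a, ha, rfl⟩
      simpa using congrArg Subtype.val (hAe a ha)

/-- The main step. -/
theorem le_of_fullyNormalized (P : Pack S p) (hS : IsPGroup p S) (hF : F.IsSaturated p) (hp5 : 5 ≤ p)
    (hcase : P.E ⊔ P.C = S ∨ Nonempty (PackC P)) (hnotE : ¬ (Nat.card S = p ^ 3 ∧ Monoid.exponent ↥S = p))
    (hr3 : ∀ E : Subgroup Ω, E ≤ S → Cfsg.IsElementaryAbelian p E → Nat.card E ≤ p ^ 2)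
    {R : Subgroup Ω} (hFN : F.IsFullyNormalized R) (hC : F.IsCentric R) (hRad : F.IsRadical p R) :
    S ≤ R := by
  classical
  by_contra hSR
  have hRS : R ≤ S := hC.1
  have hfinR : Finite R := finite_of_le hRS
  have hRp : IsPGroup p R := isPGroup_of_le hS hRS
  have hSC := stronglyClosed_E (F := F) P
  have hfinE : Finite P.E := finite_of_le P.hES
  have hcent : ∀ c ∈ S, (∀ r ∈ R, c * r = r * c) → c ∈ R := by
    intro c hc h
    refine hC.2 R (Basic.IsConj.refl hRS) ⟨hc, ?_⟩
    show c ∈ Subgroup.centralizer (R : Set Ω)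
    rw [Subgroup.mem_centralizer_iff]
    intro r hr
    exact (h r hr).symm
  have hCcomm : ∀ c ∈ P.C, ∀ c' ∈ P.C, c * c' = c' * c := by
    intro c hc c' hc'
    have h1 := P.hCcyc
    have h2 := (IsCyclic.isMulCommutative (α := P.C)).is_comm.comm ⟨c, hc⟩ ⟨c', hc'⟩
    exact congrArg Subtype.val h2
  by_cases hER : P.E ≤ R
  · -- the case `E ≤ R`
    have hRK : R ≤ P.E ⊔ P.C := by
      rcases hcase with h | ⟨⟨Q⟩⟩
      · rw [h]; exact hRS
      · intro g hg
        obtain ⟨e, he, i, rfl⟩ := Q.hgen g (hRS hg)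
        have hzi : Q.z ^ i ∈ R := by
          have e1 : Q.z ^ i = e⁻¹ * (e * Q.z ^ i) := by group
          rw [e1]
          exact R.mul_mem (R.inv_mem (hER he)) hg
        by_cases hpi : (p : ℤ) ∣ i
        · obtain ⟨m, rfl⟩ := hpi
          refine mul_mem (Subgroup.mem_sup_left he) (Subgroup.mem_sup_right ?_)
          rw [Q.hCz]
          refine ⟨m, ?_⟩
          show (Q.z ^ p) ^ m = _
          rw [zpow_mul, zpow_natCast]
        · exfalso
          apply hSR
          have hzR : Q.z ∈ R := by
            obtain ⟨n, hn⟩ := (IsPGroup.iff_orderOf.1 hS) ⟨Q.z, Q.hzS⟩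
            have hoz : orderOf Q.z = p ^ n := by
              rw [← hn, ← Subgroup.orderOf_coe]
            have hcop : IsCoprime ((p : ℤ) ^ n) i :=
              ((Nat.prime_iff_prime_int.1 hp.out).coprime_iff_not_dvd.2 hpi).pow_left
            obtain ⟨a, b, hab⟩ := hcop
            have e2 : Q.z = (Q.z ^ i) ^ b := by
              have h1 : Q.z ^ ((p : ℤ) ^ n) = 1 := by
                have h2 : Q.z ^ (p ^ n) = 1 := by rw [← hoz, pow_orderOf_eq_one]
                have h3 : ((p : ℤ) ^ n) = ((p ^ n : ℕ) : ℤ) := by push_cast; rfl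
                rw [h3, zpow_natCast, h2]
              have h4 : Q.z ^ (a * (p : ℤ) ^ n + b * i) = Q.z := by rw [hab, zpow_one]
              rw [zpow_add, mul_comm a, zpow_mul, h1, one_zpow, one_mul, mul_comm b, zpow_mul] at h4
              exact h4.symm
            rw [e2]
            exact R.zpow_mem hzi b
          intro g hg'
          obtain ⟨e', he', i', rfl⟩ := Q.hgen g hg'
          exact R.mul_mem (hER he') (R.zpow_mem hzR i')
    have hCR : P.C ≤ R := by
      intro c hc
      have hc' := (P.hCmem c).1 hc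
      refine hcent c hc'.1 fun r hr => ?_
      have hle : P.E ⊔ P.C ≤ centralizer ({c} : Set Ω) := by
        refine sup_le ?_ ?_
        · intro e he
          rw [mem_centralizer_singleton_iff]
          exact (hc'.2 e he).symm
        · intro c' hc2
          rw [mem_centralizer_singleton_iff]
          exact hCcomm c' hc2 c hc
      have := hle (hRK hr)
      rw [mem_centralizer_singleton_iff] at this
      exact this.symm
    have hRK' : R = P.E ⊔ P.C := le_antisymm hRK (sup_le hER hCR)
    rcases hcase with h | ⟨⟨Q⟩⟩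
    · exact hSR (by rw [hRK', h])
    · have hKN := K_normal P hRK' hRS
      let c : F.autGroup R := ⟨normConj Q.z (hKN Q.hzS),
        autInducedBy_le_autGroup hRS (normConj_mem_autInducedBy Q.hzS (hKN Q.hzS))⟩
      have hc := K_core P Q hS hF hp5 hRK' hRS Q.hzS (α := c) (fun _ => rfl)
      have hzR := mem_of_conj_mem_pCore hC hRad Q.hzS hc (fun _ => rfl)
      exact Q.hzK (hRK hzR)
  · -- the case `E ≰ R`
    obtain ⟨e, heE, heN, heR⟩ : ∃ e ∈ P.E, e ∈ normalizer (R : Set Ω) ∧ e ∉ R := by
      by_contra hcon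
      push Not at hcon
      exact hER (le_of_normalizer_inf_le hS hRS P.hES (StronglyClosed.le_normalizer hSC) hcon)
    have heS := P.hES heE
    let A := F.autGroup R
    have hα₀mem : normConj e heN ∈ autInducedBy S R := normConj_mem_autInducedBy heS heN
    let α₀ : A := ⟨normConj e heN, autInducedBy_le_autGroup hRS hα₀mem⟩
    obtain ⟨k, hk0⟩ := isPGroup_autInducedBy hS R ⟨normConj e heN, hα₀mem⟩
    have hk1 : (normConj e heN) ^ (p ^ k) = 1 := by
      simpa using congrArg (fun w : autInducedBy S R => (w : MulAut R)) hk0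
    have hk : α₀ ^ (p ^ k) = 1 := Subtype.ext hk1
    have hnot : α₀ ∉ pCore p A := fun h => heR (mem_of_conj_mem_pCore hC hRad heS h (fun _ => rfl))
    have hm : Cfsg.IsMetacyclic R := by
      by_contra hnm
      obtain ⟨E', -, hE'c, hE'mem, -⟩ := Cfsg.Agent.Lib.PGroup.RankTwo.exists_omega_of_not_metacyclic
        (by omega) hRp (prank_of_le hr3 hRS) hnm
      apply hER
      have hle : E'.map R.subtype ≤ P.E := by
        rintro _ ⟨x, hx, rfl⟩
        refine (P.hEmem _ (hRS x.2)).2 ?_
        simpa using congrArg Subtype.val ((hE'mem x).1 hx)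
      have heq : E'.map R.subtype = P.E := Subgroup.eq_of_le_of_card_ge hle (by
        rw [Subgroup.card_map_of_injective R.subtype_injective, hE'c, P.hEc])
      rw [← heq]
      exact Subgroup.map_subtype_le _
    have hM : P.E.subgroupOf R = ⊤ := by
      refine eq_top_of_stab hRp hm A (P.E.subgroupOf R)
        (fun α hα x hx => StronglyClosed.aut_mem hSC hRS hα x hx) hk ?_ hnot
      intro x
      show (x : Ω)⁻¹ * (e * x * e⁻¹) ∈ P.E
      have h1 : (x : Ω)⁻¹ * e * ((x : Ω)⁻¹)⁻¹ ∈ P.E :=
        StronglyClosed.conj_mem hSC (S.inv_mem (hRS x.2)) heE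
      have e1 : (x : Ω)⁻¹ * (e * x * e⁻¹) = ((x : Ω)⁻¹ * e * ((x : Ω)⁻¹)⁻¹) * e⁻¹ := by group
      rw [e1]
      exact P.E.mul_mem h1 (P.E.inv_mem heE)
    have hRE : R ≤ P.E := Subgroup.subgroupOf_eq_top.1 hM
    have hwE : P.w ∈ P.E := P.hVE P.hwV
    have hwS : P.w ∈ S := P.hES hwE
    have hwR : P.w ∈ R := hcent _ hwS fun r hr => (P.hwZ r (hRS hr)).symm
    have hCR : P.C ≤ R := by
      intro c hc
      have hc' := (P.hCmem c).1 hc
      exact hcent c hc'.1 fun r hr => hc'.2 r (hRE hr)
    have hKE : P.E = P.E ⊔ P.C := le_antisymm le_sup_left (sup_le le_rfl (hCR.trans hRE))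
    have hw1 : P.w ≠ 1 := by
      intro h
      have h2 := P.hwo
      rw [h, orderOf_one] at h2
      exact hp.out.one_lt.ne h2
    -- the order of `R`
    have hcard : Nat.card R = p ^ 2 := by
      have h1 : Nat.card R ∣ p ^ 3 := P.hEc ▸ Subgroup.card_dvd_of_le hRE
      obtain ⟨j, hj, hcj⟩ := (Nat.dvd_prime_pow hp.out).1 h1
      have hj3 : j ≠ 3 := by
        rintro rfl
        exact hER (Subgroup.eq_of_le_of_card_ge hRE (by rw [P.hEc, hcj])).ge
      have hj0 : j ≠ 0 := by
        rintro rfl
        rw [pow_zero] at hcj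
        have h2 : Subsingleton R := (Nat.card_eq_one_iff_unique.1 hcj).1
        have h3 : (⟨P.w, hwR⟩ : R) = 1 := Subsingleton.elim _ _
        exact hw1 (congrArg Subtype.val h3)
      have hj1 : j ≠ 1 := by
        rintro rfl
        rw [pow_one] at hcj
        have hz : zpowers P.w = R := Subgroup.eq_of_le_of_card_ge (zpowers_le.2 hwR) (by
          rw [Nat.card_zpowers, P.hwo, hcj])
        apply hSR
        intro g hg
        refine hcent g hg fun r hr => ?_
        rw [← hz] at hr
        exact comm_zpowers_w P hg hr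
      have : j = 2 := by omega
      rw [hcj, this]
    have hRab : IsMulCommutative R := IsPGroup.isMulCommutative_of_card_eq_prime_sq hcard
    have hRc : ∀ a b : R, a * b = b * a := hRab.is_comm.comm
    have hRexp : ∀ x : R, x ^ p = 1 := by
      intro x
      apply Subtype.ext
      simpa using (P.hEmem _ (hRS x.2)).1 (hRE x.2)
    rcases hcase with h | ⟨⟨Q⟩⟩
    · -- `S = E`, impossible
      apply hnotE
      have hSE : P.E = S := hKE.trans h
      have hc : Nat.card S = p ^ 3 := by rw [← hSE, P.hEc]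
      refine ⟨hc, ?_⟩
      have hnt : Nontrivial S := by
        refine ⟨⟨⟨P.w, hwS⟩, 1, fun h2 => hw1 (congrArg Subtype.val h2)⟩⟩
      rw [Monoid.exponent_eq_prime_iff hp.out]
      intro g hg
      refine orderOf_eq_prime ?_ hg
      apply Subtype.ext
      have hgE : (g : Ω) ∈ P.E := by rw [hSE]; exact g.2
      simpa using (P.hEmem _ g.2).1 hgE
    · -- the main case
      let instR : CommGroup R := { (inferInstance : Group R) with mul_comm := hRc }
      let e₁ : R := ⟨P.w, hwR⟩
      have he₁ : e₁ ≠ 1 := fun h => hw1 (congrArg Subtype.val h)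
      let u : MulAut R := normConj e heN
      have huA : u ∈ A := α₀.2
      have hfix : u e₁ = e₁ := by
        apply Subtype.ext
        show e * P.w * e⁻¹ = P.w
        rw [P.hwZ e heS]
        group
      have hu1 : u ≠ 1 := by
        intro h
        apply heR
        refine hcent e heS fun r hr => ?_
        have h1 : u ⟨r, hr⟩ = ⟨r, hr⟩ := by rw [h]; rfl
        have h2 : e * r * e⁻¹ = r := congrArg Subtype.val h1
        calc e * r = (e * r * e⁻¹) * e := by group
          _ = r * e := by rw [h2]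
      by_cases hinvw : ∀ β ∈ A, β e₁ ∈ zpowers e₁
      · -- a chain
        apply heR
        refine mem_of_stab_chain (E := fun i => if i = 0 then ⊥ else if i = 1 then zpowers P.w else R)
          (m := 2) hS hC hRad rfl le_rfl ?_ heS heN ?_
        · intro i hi α hα x hx
          interval_cases i
          · have h1 : (x : Ω) = 1 := hx
            have h2 : x = 1 := Subtype.ext h1
            rw [h2, map_one]
            exact one_mem _
          · obtain ⟨n, hn⟩ := hx
            have h1 : x = e₁ ^ n := Subtype.ext (by simpa [e₁] using hn.symm)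
            have h2 : α x ∈ zpowers e₁ := by
              rw [h1, map_zpow]
              exact zpow_mem (hinvw α hα) n
            obtain ⟨m, hm⟩ := h2
            refine ⟨m, ?_⟩
            have h3 := congrArg Subtype.val hm
            simpa [e₁] using h3
          · exact (α x).2
        · intro i hi x hxR hx
          interval_cases i
          · have hx' : x ∈ zpowers P.w := hx
            have h1 := comm_zpowers_w P heS hx'
            show x⁻¹ * (e * x * e⁻¹) ∈ (⊥ : Subgroup Ω)
            rw [Subgroup.mem_bot, h1]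
            group
          · show x⁻¹ * (e * x * e⁻¹) ∈ zpowers P.w
            have h1 := P.hEcomm _ (inv_mem (hRE hxR)) _ heE
            have e1 : x⁻¹ * (e * x * e⁻¹) = ⁅x⁻¹, e⁆ := by
              simp [commutatorElement_def, mul_assoc]
            rw [e1]
            exact h1
      · push Not at hinvw
        obtain ⟨β, hβ, hβe⟩ := hinvw
        set e₂ : R := β e₁ with he₂
        -- the torus element
        let a' : ℕ := (p + 1) / 2
        have hodd : Odd p := hp.out.odd_of_ne_two (by omega)
        have h2a : 2 * a' = p + 1 := by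
          obtain ⟨c, hc⟩ := hodd
          show 2 * ((p + 1) / 2) = p + 1
          omega
        have haa : ((2 * a' : ℕ) : ZMod p) = 1 := by
          rw [h2a]
          push_cast
          simp
        obtain ⟨t, ht, ht1, ht2⟩ := Linear.exists_diag (V := R) (p := p) hRexp hcard.le A huA
          hk1 hu1 he₁ hfix hβ hβe haa
        have he₂z : e₂ ∉ zpowers e₁ := hβe
        obtain ⟨c, hc⟩ : ∃ c : ℕ, u e₂ = e₂ * e₁ ^ c := by
          let t₀ : R := e₂⁻¹ * u e₂
          have h1 : (t₀ : Ω) ∈ zpowers P.w := by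
            have h2 := P.hEcomm _ (inv_mem (hRE e₂.2)) _ heE
            have e1 : (t₀ : Ω) = ⁅(e₂ : Ω)⁻¹, e⁆ := by
              show (e₂ : Ω)⁻¹ * (e * (e₂ : Ω) * e⁻¹) = _
              simp [commutatorElement_def, mul_assoc]
            rw [e1]
            exact h2
          have h2 : t₀ ∈ zpowers e₁ := by
            obtain ⟨n, hn⟩ := h1
            exact ⟨n, Subtype.ext (by simpa [e₁] using hn)⟩
          obtain ⟨c, hc⟩ := mem_powers_iff_mem_zpowers.2 h2
          refine ⟨c, ?_⟩
          have hc' : e₁ ^ c = t₀ := hc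
          rw [hc']
          simp [t₀]
        have hconj : t * u = u ^ (2 * 2) * t :=
          Linear.diag_conj (V := R) (p := p) hRexp hcard.le he₁ he₂z haa ht1 ht2 hfix hc
        -- extension
        let φ : R →* Ω := R.subtype.comp t.toMonoidHom
        have hφ : φ ∈ F.Hom R := autGroup_mem_hom hRS ht
        have hrange : φ.range = R := by
          ext y
          constructor
          · rintro ⟨x, rfl⟩
            exact (t x).2
          · intro hy
            exact ⟨t⁻¹ ⟨y, hy⟩, congrArg Subtype.val (MulAut.apply_inv_self _ _ ⟨y, hy⟩)⟩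
        have hφv : ∀ x, φ x ∈ S := fun x => hRS (t x).2
        have heX : e ∈ extender S R φ := by
          refine extender_closure_mem heS heN (S.pow_mem heS (2 * 2)) (fun x hx => ?_)
          have h1 : (⟨e * x * e⁻¹, hx⟩ : R) = u x := rfl
          have h2 : φ ⟨e * x * e⁻¹, hx⟩ = ((t (u x) : R) : Ω) := by rw [h1]; rfl
          have h3 : t (u x) = (u ^ (2 * 2)) (t x) := congrArg (fun τ : MulAut R => τ x) hconj
          rw [h2, h3]
          exact Cfsg.Agent.Lib.Fusion.Meta.Main.normConj_pow heN (2 * 2) (t x)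
        obtain ⟨ψ, hψ, hψag⟩ := (fullyNormalized_receptive hS hF hFN).2 R φ hφ hrange
        have hRX : R ≤ extender S R φ := le_extender hRS hφv
        have hEX : P.E ≤ extender S R φ := by
          have hTE : R ⊔ zpowers e ≤ P.E := sup_le hRE (zpowers_le.2 heE)
          have hTeq : R ⊔ zpowers e = P.E := by
            refine Subgroup.eq_of_le_of_card_ge hTE ?_
            rw [P.hEc]
            have h1 : Nat.card ↥(R ⊔ zpowers e) ∣ p ^ 3 := P.hEc ▸ Subgroup.card_dvd_of_le hTE
            obtain ⟨j, hj, hcj⟩ := (Nat.dvd_prime_pow hp.out).1 h1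
            have hfinT : Finite ↥(R ⊔ zpowers e) := finite_of_le (hTE.trans P.hES)
            have hlt : Nat.card R < Nat.card ↥(R ⊔ zpowers e) := by
              refine Cfsg.Agent.Lib.Fusion.Saturated2.card_lt_of_lt
                (lt_of_le_of_ne le_sup_left fun h => heR ?_)
              rw [h]
              exact Subgroup.mem_sup_right (mem_zpowers e)
            rw [hcard, hcj] at hlt
            have h2 := (Nat.pow_lt_pow_iff_right hp.out.one_lt).1 hlt
            have : j = 3 := by omega
            rw [hcj, this]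
          rw [← hTeq]
          exact sup_le hRX (zpowers_le.2 heX)
        let t₁ : P.E →* Ω := ψ.comp (inclusion hEX)
        have ht₁ : t₁ ∈ F.Hom P.E := res_mem hψ hEX
        have ht₁v : ∀ x, t₁ x ∈ P.E := hSC.2 P.E le_rfl t₁ ht₁
        let τ : MulAut P.E := Cfsg.Agent.Lib.Fusion.Saturated2.autOfHom t₁ (F.injective_of_mem ht₁) ht₁v
        have hτ : τ ∈ F.autGroup P.E := Cfsg.Agent.Lib.Fusion.Saturated2.autOfHom_mem ht₁ ht₁v
        obtain ⟨θ, hθ, hθag⟩ := K_ext P Q hS hF hp5 hKE P.hES hτ
        have he₂E : (e₂ : Ω) ∈ P.E := hRE e₂.2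
        have he₂S : (e₂ : Ω) ∈ S := P.hES he₂E
        have hθe₂ : ((θ ⟨(e₂ : Ω), he₂S⟩ : S) : Ω) = (e₂ : Ω) ^ a' := by
          rw [hθag _ he₂E he₂S]
          show ψ ⟨(e₂ : Ω), hEX he₂E⟩ = _
          rw [hψag (e₂ : Ω) e₂.2 (hEX he₂E)]
          show ((t e₂ : R) : Ω) = _
          rw [ht2]
          simp
          rfl
        have he₂V : (e₂ : Ω) ∉ P.V := by
          intro h
          apply Q.hzK
          apply Subgroup.mem_sup_left
          apply hRE
          refine hcent Q.z Q.hzS fun r hr => ?_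
          obtain ⟨i, j, hij⟩ := Cfsg.Agent.Lib.Fusion.Meta.Linear.exists_coords (V := R) (p := p) hRexp
            hcard.le he₁ he₂z ⟨r, hr⟩
          have hrV : r ∈ P.V := by
            have h3 : r = P.w ^ i * (e₂ : Ω) ^ j := by
              simpa [e₁] using congrArg Subtype.val hij
            rw [h3]
            exact P.V.mul_mem (pow_mem P.hwV i) (pow_mem h j)
          exact (Q.hzV r hrV).symm
        have hrel : ((θ ⟨(e₂ : Ω), he₂S⟩ : S) : Ω) * ((e₂ : Ω) ^ a')⁻¹ ∈ P.V := by
          rw [hθe₂, mul_inv_cancel]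
          exact one_mem _
        have hmod := Q.hweights θ ⟨(e₂ : Ω), he₂S⟩ he₂E he₂V a' hrel
        have hz : ((a' * a' : ℕ) : ZMod p) = ((1 : ℕ) : ZMod p) :=
          (ZMod.natCast_eq_natCast_iff _ _ _).2 hmod
        have haa' : (2 : ZMod p) * (a' : ZMod p) = 1 := by
          have := haa
          push_cast at this
          exact this
        have h3 : (3 : ZMod p) = 0 := by
          push_cast at hz
          have h4 : (2 : ZMod p) * (2 : ZMod p) = 1 := by
            have h5 : ((2 : ZMod p) * (a' : ZMod p)) * ((2 : ZMod p) * (a' : ZMod p)) = 1 := by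
              rw [haa', one_mul]
            have h6 : ((2 : ZMod p) * (a' : ZMod p)) * ((2 : ZMod p) * (a' : ZMod p)) =
                (2 : ZMod p) * 2 * ((a' : ZMod p) * a') := by ring
            rw [h6, hz, mul_one] at h5
            exact h5
          linear_combination h4
        have h4 : p ∣ 3 := by
          have : ((3 : ℕ) : ZMod p) = 0 := by exact_mod_cast h3
          exact (ZMod.natCast_eq_zero_iff 3 p).1 this
        have h5 := Nat.le_of_dvd (by norm_num) h4
        omega

/-- **S5289**. -/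
theorem isNormal_top (hS : IsPGroup p S) (hF : F.IsSaturated p) (hp5 : 5 ≤ p)
    (hr3 : ∀ E : Subgroup Ω, E ≤ S → Cfsg.IsElementaryAbelian p E → Nat.card E ≤ p ^ 2)
    (hnotE : ¬ (Nat.card S = p ^ 3 ∧ Monoid.exponent ↥S = p)) : F.IsNormal S := by
  have hSC : F.StronglyClosed S := ⟨le_rfl, fun R _ φ hφ x => map_mem_S hφ x⟩
  by_cases hm : Cfsg.IsMetacyclic S
  · exact Cfsg.Agent.Lib.Fusion.Meta.Main.isNormal hS hF hSC (by omega) hm
  obtain ⟨P, hcase⟩ := exists_pack (by omega) hS (prank_of_le hr3 le_rfl) hm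
  refine isNormal_of_stronglyClosed_of_le hS hF hSC ?_
  intro R hC hRad
  obtain ⟨R', hconj, hFN⟩ := exists_fullyNormalized (F := F) hC.1
  have hC' : F.IsCentric R' :=
    ⟨Basic.IsConj.le_right hconj, fun Q' hQ' => hC.2 Q' (Basic.IsConj.trans hconj hQ')⟩
  obtain ⟨φ, hφ, hr⟩ := id hconj
  have hRad' : F.IsRadical p R' := Cfsg.Agent.Lib.Fusion.RadicalConj.isRadical_of_conj hφ hr hRad
  have hle : S ≤ R' := le_of_fullyNormalized P hS hF hp5 hcase hnotE hr3 hFN hC' hRad'
  obtain ⟨θ, hθ, hθr, -, -⟩ := exists_inv hφ hr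
  have h1 := StronglyClosed.map_eq hSC hle hθ
  rw [← h1]
  rintro _ ⟨x, -, rfl⟩
  rw [← hθr]
  exact ⟨x, rfl⟩

end Cfsg.Agent.Lib.Fusion.RankTwo
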